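import Groth.Agent.Lib.Helper90.DTen.BC.Sigma
import Groth.Agent.Lib.Helper90.DTen.Main
import Groth.Agent.Lib.Helper28.KProjFlat

/-!
# Base change for `RHom` along a ring map `R → R'` with `R'` perfect over `R` (helper90)
-/

set_option autoImplicit false
set_option linter.style.haveILetI false
set_option backward.isDefEq.respectTransparency false
universe u
open CategoryTheory CategoryTheory.Limits MonoidalCategory
attribute [local instance] HasDerivedCategory.standard

namespace Groth.Agent.Lib.Helper90.DTen.BC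

open _root_.DTen Groth.Agent.Lib.Helper28 Groth.Agent.Lib.Helper26.AdjKProj
  Groth.Agent.Lib.Helper90.DTen Groth.Agent.Lib.Helper26.TensorHomCx

section General

variable {R R' : Type u} [CommRing R] [CommRing R'] (φ : R →+* R')

/-- `u_X` is a quasi-isomorphism for `X` K-projective when `q` is a quasi-isomorphism. -/
lemma quasiIso_uMap (E : DRing.Cx R) (q : E ⟶ resUnit φ) [QuasiIso q] (X : DRing.Cx R)
    [X.IsKProjective] : QuasiIso (uMap φ E q X) := by
  rw [uMap_eq]
  haveI : QuasiIso (q ▷ X) :=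
    TensCx.quasiIso_whiskerRight_of_kflat q X (KProjFlat.kflat_of_isKProjective X)
  infer_instance

/-- The key quasi-isomorphism. -/
theorem quasiIso_ext_comp_beta (E : DRing.Cx R) (a b : ℤ) (hE : DRing.VanishesOutside E a b)
    (hfp : DRing.TermwiseFiniteProjective E) (q : E ⟶ resUnit φ) [QuasiIso q]
    (P N H : DRing.Cx R) [P.IsKProjective] [N.IsKProjective] [H.IsKProjective]
    (s : H ⟶ DRing.homCx P N) [QuasiIso s] :
    QuasiIso ((extCx φ).map s ≫ beta φ P N) := by
  haveI : E.IsKProjective := Groth.Agent.Lib.Helper32.LBC.isKProjective_of_vanishesAbove E b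
    (fun i hi => hE i (Or.inr hi)) (fun i => (hfp i).2)
  haveI : QuasiIso (uMap φ E q H) := quasiIso_uMap φ E q H
  haveI : QuasiIso (uMap φ E q N) := quasiIso_uMap φ E q N
  haveI : QuasiIso (E ◁ s) := TensCx.quasiIso_whiskerLeft E
    (fun C hC => KProjFlat.acyclic_tensor_left_of_kflat E (KProjFlat.kflat_of_isKProjective E) C hC) s
  haveI : IsIso (canon E N P) := isIso_canon E N P a b hE hfp
  haveI : QuasiIso (DRing.homCxMap P (uMap φ E q N)) :=
    Groth.Agent.Lib.Helper6.RHomKProj.quasiIso_homCxMap P (uMap φ E q N)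
  -- the total composite
  have hsq : uMap φ E q H ≫ ((resCx φ).map ((extCx φ).map s ≫ beta φ P N) ≫
      lam φ P ((extCx φ).obj N)) =
      (E ◁ s) ≫ canon E N P ≫ DRing.homCxMap P (uMap φ E q N) := by
    rw [Functor.map_comp, Category.assoc, ← Category.assoc (uMap φ E q H), ← uMap_naturality,
      Category.assoc, uMap_beta_lam]
  haveI : QuasiIso (uMap φ E q H ≫ ((resCx φ).map ((extCx φ).map s ≫ beta φ P N) ≫
      lam φ P ((extCx φ).obj N))) := by
    rw [hsq]
    infer_instance
  haveI h1 : QuasiIso ((resCx φ).map ((extCx φ).map s ≫ beta φ P N) ≫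
      lam φ P ((extCx φ).obj N)) :=
    quasiIso_of_comp_left (uMap φ E q H) _
  haveI h2 : QuasiIso ((resCx φ).map ((extCx φ).map s ≫ beta φ P N)) :=
    quasiIso_of_comp_right _ (lam φ P ((extCx φ).obj N))
  exact (HomologicalComplex.quasiIso_map_iff_of_preservesHomology
    ((extCx φ).map s ≫ beta φ P N) (ModuleCat.restrictScalars.{u} φ)).1 h2

section Derived

variable [HasLTen R] [HasLTen R'] [HasRHom R] [HasRHom R'] [HasLBase φ] [HasResTen φ] [ResLegIso φ]

open Groth.Agent.Lib.Helper26.KProjQ Groth.Agent.Lib.Helper26.DTenKProj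

/-- `bcRHom φ K M` is an isomorphism when `K ≅ QP` with `P` K-projective, `M ≅ QN`, derived base
change is computed termwise on `N`, and `baseCmp ≫ Q beta` is an isomorphism. -/
theorem isIso_bcRHom_of_cx' (K M : Dual.D R) [IsIso (rhomBC φ K ((LBase φ).obj M))]
    (P N : DRing.Cx R) [P.IsKProjective] (eK : DerivedCategory.Q.obj P ≅ K)
    (eM : DerivedCategory.Q.obj N ≅ M)
    (hN : IsIso ((baseCmp φ).app N))
    (hX : IsIso ((baseCmp φ).app (DRing.homCx P N) ≫ DerivedCategory.Q.map (beta φ P N))) :
    IsIso (bcRHom φ K M) := by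
  haveI := Groth.Agent.Lib.Helper26.DTenSplit.isKProjective_extCx φ P
  haveI : IsIso ((baseCmp φ).app P) := Groth.Agent.Lib.Helper26.DTenSplit.isIso_baseCmp φ P
  haveI : IsIso (rho P N) := isIso_rho' P N
  haveI : IsIso (rho ((extCx φ).obj P) ((extCx φ).obj N)) := isIso_rho' _ _
  haveI : IsIso (RHomMap eK.inv (DerivedCategory.Q.obj N)) := by
    dsimp only [RHomMap]
    haveI h1 : IsIso eK.inv.op := isIso_op _
    haveI h2 : IsIso ((RHom R).map eK.inv.op) := Functor.map_isIso _ _
    exact NatIso.isIso_app_of_isIso _ _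
  -- the data
  let r : DerivedCategory.Q.obj (DRing.homCx P N) ⟶ (RHomR R K).obj M :=
    rho P N ≫ RHomMap eK.inv (DerivedCategory.Q.obj N) ≫ (RHomR R K).map eM.hom
  haveI : IsIso r := by
    dsimp only [r]
    infer_instance
  let cK : (LBase φ).obj K ⟶ DerivedCategory.Q.obj ((extCx φ).obj P) :=
    (LBase φ).map eK.inv ≫ (baseCmp φ).app P
  haveI : IsIso cK := by
    dsimp only [cK]
    infer_instance
  let cM : (LBase φ).obj M ⟶ DerivedCategory.Q.obj ((extCx φ).obj N) :=
    (LBase φ).map eM.inv ≫ (baseCmp φ).app N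
  haveI : IsIso cM := by
    dsimp only [cM]
    infer_instance
  let cX : (LBase φ).obj (DerivedCategory.Q.obj (DRing.homCx P N)) ⟶
      DerivedCategory.Q.obj (DRing.homCx ((extCx φ).obj P) ((extCx φ).obj N)) :=
    (baseCmp φ).app (DRing.homCx P N) ≫ DerivedCategory.Q.map (beta φ P N)
  haveI : IsIso cX := hX
  refine isIso_bcRHom_of_data φ K M r cK cM cX (rho ((extCx φ).obj P) ((extCx φ).obj N)) ?_
  -- the uncurried form of `r`
  have hr : tmap r (𝟙 K) ≫ ev K M =
      tmap (𝟙 _) eK.inv ≫ (eps (DRing.homCx P N) P ≫ DerivedCategory.Q.map (evCx P N)) ≫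
        eM.hom := by
    dsimp only [r]
    rw [tmap_comp_left, tmap_comp_left, Category.assoc, Category.assoc, ev_naturality,
      ← Category.assoc (tmap (RHomMap eK.inv _) _), RHom_map_ev, Category.assoc,
      ← Category.assoc (tmap (rho P N) _), tmap_left_right, ← tmap_right_left, Category.assoc,
      ← Category.assoc (tmap (rho P N) _), rho_fac']
  have hmm := mm_naturality φ (𝟙 (DerivedCategory.Q.obj (DRing.homCx P N))) eK.inv
  rw [CategoryTheory.Functor.map_id] at hmm
  have hc : tmap cX cK =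
      tmap (𝟙 ((LBase φ).obj (DerivedCategory.Q.obj (DRing.homCx P N)))) ((LBase φ).map eK.inv) ≫
      tmap ((baseCmp φ).app (DRing.homCx P N) ≫ DerivedCategory.Q.map (beta φ P N))
        ((baseCmp φ).app P) := by
    dsimp only [cX, cK]
    rw [← tmap_comp', Category.id_comp]
  have hL : mm φ (DerivedCategory.Q.obj (DRing.homCx P N)) K ≫ tmap cX cK ≫
      tmap (rho ((extCx φ).obj P) ((extCx φ).obj N))
        (𝟙 (DerivedCategory.Q.obj ((extCx φ).obj P))) ≫
      ev (DerivedCategory.Q.obj ((extCx φ).obj P)) (DerivedCategory.Q.obj ((extCx φ).obj N)) =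
      (LBase φ).map (tmap (𝟙 (DerivedCategory.Q.obj (DRing.homCx P N))) eK.inv) ≫
        ((LBase φ).map (eps (DRing.homCx P N) P ≫ DerivedCategory.Q.map (evCx P N)) ≫
          (baseCmp φ).app N) := by
    rw [hc, ← hyp_cx φ P N, ← Category.assoc ((LBase φ).map _), hmm]
    simp only [Category.assoc]
  refine hL.trans ?_
  rw [hr]
  dsimp only [cM]
  have e1 : (LBase φ).map eM.hom ≫ (LBase φ).map eM.inv ≫ (baseCmp φ).app N =
      (baseCmp φ).app N := by
    rw [← Category.assoc, ← Functor.map_comp, Iso.hom_inv_id, CategoryTheory.Functor.map_id,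
      Category.id_comp]
  rw [Functor.map_comp (LBase φ) (tmap _ eK.inv), Functor.map_comp (LBase φ) _ eM.hom,
    Category.assoc, Category.assoc, e1]


/-- `bcRHom` is an isomorphism as soon as `res 𝟙` has a bounded resolution by finite projective
`R`-modules. -/
theorem isIso_bcRHom_of_resolution (K M : Dual.D R) [IsIso (rhomBC φ K ((LBase φ).obj M))]
    (E : DRing.Cx R) (a b : ℤ) (hE : DRing.VanishesOutside E a b)
    (hfp : DRing.TermwiseFiniteProjective E)
    (e : DerivedCategory.Q.obj E ≅ DerivedCategory.Q.obj (resUnit φ)) :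
    IsIso (bcRHom φ K M) := by
  haveI : E.IsKProjective := Groth.Agent.Lib.Helper32.LBC.isKProjective_of_vanishesAbove E b
    (fun i hi => hE i (Or.inr hi)) (fun i => (hfp i).2)
  obtain ⟨q, hq⟩ := Q_map_surjective E (resUnit φ) e.hom
  haveI : QuasiIso q := by
    rw [← DerivedCategory.isIso_Q_map_iff_quasiIso, hq]
    infer_instance
  obtain ⟨P, hP, ⟨eK⟩⟩ := Groth.Agent.Lib.Helper32.LBC.exists_kproj_iso K
  obtain ⟨N, hN, ⟨eM⟩⟩ := Groth.Agent.Lib.Helper32.LBC.exists_kproj_iso M
  obtain ⟨H, hH, ⟨eH⟩⟩ := Groth.Agent.Lib.Helper32.LBC.exists_kproj_iso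
    (DerivedCategory.Q.obj (DRing.homCx P N))
  obtain ⟨s, hs⟩ := Q_map_surjective H (DRing.homCx P N) eH.hom
  haveI : IsIso (DerivedCategory.Q.map s) := by
    rw [hs]
    infer_instance
  haveI : QuasiIso s := (DerivedCategory.isIso_Q_map_iff_quasiIso _ s).1 inferInstance
  have key := quasiIso_ext_comp_beta φ E a b hE hfp q P N H s
  haveI : IsIso (DerivedCategory.Q.map ((extCx φ).map s ≫ beta φ P N)) :=
    (DerivedCategory.isIso_Q_map_iff_quasiIso _ _).2 key
  haveI : IsIso ((baseCmp φ).app H) := Groth.Agent.Lib.Helper26.DTenSplit.isIso_baseCmp φ H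
  refine isIso_bcRHom_of_cx' φ K M P N eK eM
    (Groth.Agent.Lib.Helper26.DTenSplit.isIso_baseCmp φ N) ?_
  have hnat := (baseCmp φ).naturality s
  dsimp only [Functor.comp_obj, Functor.comp_map] at hnat
  have e1 : (baseCmp φ).app (DRing.homCx P N) ≫ DerivedCategory.Q.map (beta φ P N) =
      inv ((LBase φ).map (DerivedCategory.Q.map s)) ≫ (baseCmp φ).app H ≫
        DerivedCategory.Q.map ((extCx φ).map s ≫ beta φ P N) := by
    rw [IsIso.eq_inv_comp, ← Category.assoc, hnat, Category.assoc, ← Functor.map_comp]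
  rw [e1]
  infer_instance

end Derived

end General

section Alg

variable (R R' : Type u) [CommRing R] [CommRing R'] [Algebra R R']

/-- `R'` as an `R`-module is the restriction of scalars of `R'`. -/
noncomputable def resSelfIso :
    ModuleCat.of R R' ≅ (ModuleCat.restrictScalars.{u} (algebraMap R R')).obj (ModuleCat.of R' R') where
  hom := ModuleCat.ofHom
    (Y := (ModuleCat.restrictScalars.{u} (algebraMap R R')).obj (ModuleCat.of R' R'))
    { toFun := fun x => x
      map_add' := fun _ _ => rfl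
      map_smul' := fun r x => Algebra.smul_def r x }
  inv := ModuleCat.ofHom
    (X := (ModuleCat.restrictScalars.{u} (algebraMap R R')).obj (ModuleCat.of R' R'))
    { toFun := fun x => x
      map_add' := fun _ _ => rfl
      map_smul' := fun r x => (Algebra.smul_def r (show R' from x)).symm }
  hom_inv_id := by
    ext x
    rfl
  inv_hom_id := by
    ext x
    rfl

/-- The unit complex restricted to `R` is `R'[0]`. -/
noncomputable def resUnitIso :
    (CochainComplex.singleFunctor (ModuleCat.{u} R) 0).obj (ModuleCat.of R R') ≅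
      resUnit (algebraMap R R') :=
  (CochainComplex.singleFunctor (ModuleCat.{u} R) 0).mapIso (resSelfIso R R') ≪≫
    ((HomologicalComplex.singleMapHomologicalComplex
      (ModuleCat.restrictScalars.{u} (algebraMap R R')) (ComplexShape.up ℤ) 0).app
        (ModuleCat.of R' R')).symm


end Alg

/-- Base change for `RHom` along `R → R'` with `R'` perfect as an `R`-module. -/
theorem isIso_bcRHom_of_isPerfectModule (R R' : Type u) [CommRing R] [CommRing R'] [Algebra R R']
    [HasLTen R] [HasLTen R'] [HasRHom R] [HasRHom R'] [HasLBase (algebraMap R R')]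
    [HasResTen (algebraMap R R')] [ResLegIso (algebraMap R R')] (K M : Dual.D R)
    [IsIso (rhomBC (algebraMap R R') K ((LBase (algebraMap R R')).obj M))]
    (hR' : DRing.IsPerfectModule R R') :
    IsIso (bcRHom (algebraMap R R') K M) := by
  obtain ⟨E, a, b, hE, hfp, ⟨e⟩⟩ := hR'
  exact isIso_bcRHom_of_resolution (algebraMap R R') K M E a b hE hfp
    (e ≪≫ (DerivedCategory.singleFunctorIsoCompQ (ModuleCat.{u} R) 0).app (ModuleCat.of R R') ≪≫
      DerivedCategory.Q.mapIso (resUnitIso R R'))

end Groth.Agent.Lib.Helper90.DTen.BC
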