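import Groth.Agent.Lib.Helper90.DTen.BC.RhomBC

/-!
# The base change map `bcRHom` for derived hom: abstract criterion (helper90)
-/

set_option autoImplicit false
set_option linter.style.haveILetI false
universe u
open CategoryTheory CategoryTheory.Limits MonoidalCategory
attribute [local instance] HasDerivedCategory.standard

namespace Groth.Agent.Lib.Helper90.DTen.BC

open _root_.DTen Groth.Agent.Lib.Helper90.DTen

section Light

variable {A : Type u} [CommRing A] [HasLTen A] [HasRHom A]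

omit [HasRHom A] in
lemma tmap_comp_left {a a' a'' : Dual.D A} (f : a ⟶ a') (f' : a' ⟶ a'') (b : Dual.D A) :
    tmap (f ≫ f') (𝟙 b) = tmap f (𝟙 b) ≫ tmap f' (𝟙 b) := by
  rw [← tmap_comp', Category.comp_id]

omit [HasRHom A] in
lemma tmap_comp_right (a : Dual.D A) {b b' b'' : Dual.D A} (g : b ⟶ b') (g' : b' ⟶ b'') :
    tmap (𝟙 a) (g ≫ g') = tmap (𝟙 a) g ≫ tmap (𝟙 a) g' := by
  rw [← tmap_comp', Category.comp_id]

omit [HasRHom A] in
lemma tmap_left_right {a a' b b' : Dual.D A} (f : a ⟶ a') (g : b ⟶ b') :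
    tmap f (𝟙 b) ≫ tmap (𝟙 a') g = tmap f g := by
  rw [← tmap_comp', Category.comp_id, Category.id_comp]

omit [HasRHom A] in
lemma tmap_right_left {a a' b b' : Dual.D A} (f : a ⟶ a') (g : b ⟶ b') :
    tmap (𝟙 a) g ≫ tmap f (𝟙 b') = tmap f g := by
  rw [← tmap_comp', Category.comp_id, Category.id_comp]

lemma ev_naturality (L : Dual.D A) {M M' : Dual.D A} (g : M ⟶ M') :
    tmap ((RHomR A L).map g) (𝟙 L) ≫ ev L M' = ev L M ≫ g :=
  (rhomAdj A L).counit.naturality g

lemma uncurry_eq {T L M : Dual.D A} (f : T ⟶ (RHomR A L).obj M) :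
    (rhomHomEquiv T L M).symm f = tmap f (𝟙 L) ≫ ev L M :=
  (rhomAdj A L).homEquiv_counit _ _ f

lemma hom_ext_RHomR {T L M : Dual.D A} {f g : T ⟶ (RHomR A L).obj M}
    (h : tmap f (𝟙 L) ≫ ev L M = tmap g (𝟙 L) ≫ ev L M) : f = g := by
  apply (rhomHomEquiv T L M).symm.injective
  rw [uncurry_eq, uncurry_eq]
  exact h

end Light

variable {R R' : Type u} [CommRing R] [CommRing R'] (φ : R →+* R')
  [HasLTen R] [HasLTen R'] [HasRHom R] [HasRHom R'] [HasLBase φ] [HasResTen φ] [ResLegIso φ]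

/-- The uncurried form of `bcRHom`. -/
lemma bcRHom_uncurry (K M : Dual.D R) [IsIso (rhomBC φ K ((LBase φ).obj M))] :
    mm φ ((RHomR R K).obj M) K ≫ tmap (bcRHom φ K M) (𝟙 ((LBase φ).obj K)) ≫
        ev ((LBase φ).obj K) ((LBase φ).obj M) = (LBase φ).map (ev K M) := by
  apply hom_ext_LBase
  have hR : (baseAdj φ).unit.app _ ≫ (DRing.restrictD φ).map ((LBase φ).map (ev K M)) =
      ev K M ≫ (baseAdj φ).unit.app M := ((baseAdj φ).unit.naturality (ev K M)).symm
  rw [hR, Functor.map_comp, ← Category.assoc, unit_mm, Functor.map_comp]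
  dsimp only [mu]
  rw [Category.assoc, ← Category.assoc ((resPF φ).app _), ← resPF_naturality, Category.assoc,
    ← Category.assoc, ← tmap_comp', bcRHom_fac, CategoryTheory.Functor.map_id]
  have e1 : tmap ((RHomR R K).map ((baseAdj φ).unit.app M) ≫ inv (rhomBC φ K ((LBase φ).obj M)))
        ((baseAdj φ).unit.app K ≫ 𝟙 ((DRing.restrictD φ).obj ((LBase φ).obj K))) =
      tmap ((RHomR R K).map ((baseAdj φ).unit.app M) ≫ inv (rhomBC φ K ((LBase φ).obj M)))
        (𝟙 K) ≫ tmap (𝟙 _) ((baseAdj φ).unit.app K) := by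
    rw [← tmap_comp']
    congr 1
    · exact (Category.comp_id _).symm
    · exact (Category.comp_id _).trans (Category.id_comp _).symm
  rw [e1, Category.assoc]
  have e2 : tmap (𝟙 _) ((baseAdj φ).unit.app K) ≫
      (resPF φ).app ((RHomR R' ((LBase φ).obj K)).obj ((LBase φ).obj M), (LBase φ).obj K) ≫
        (DRing.restrictD φ).map (ev ((LBase φ).obj K) ((LBase φ).obj M)) =
      rhomBCCore φ K ((LBase φ).obj M) := rfl
  rw [e2, ← rhomBC_fac]
  have e3 : (tensorRightD R K).map (rhomBC φ K ((LBase φ).obj M)) =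
      tmap (rhomBC φ K ((LBase φ).obj M)) (𝟙 K) := rfl
  rw [e3, ← Category.assoc, ← tmap_comp', Category.assoc, IsIso.inv_hom_id, Category.comp_id,
    Category.comp_id]
  exact ev_naturality K _

/-- Abstract criterion: `bcRHom` is an isomorphism as soon as it is computed by isomorphisms
compatible with the evaluations. -/
theorem isIso_bcRHom_of_data (K M : Dual.D R) [IsIso (rhomBC φ K ((LBase φ).obj M))]
    {X : Dual.D R} (r : X ⟶ (RHomR R K).obj M) [IsIso r]
    {K' M' X' : Dual.D R'} (cK : (LBase φ).obj K ⟶ K') [IsIso cK]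
    (cM : (LBase φ).obj M ⟶ M') [IsIso cM]
    (cX : (LBase φ).obj X ⟶ X') [IsIso cX] (r' : X' ⟶ (RHomR R' K').obj M') [IsIso r']
    (hyp : mm φ X K ≫ tmap cX cK ≫ tmap r' (𝟙 K') ≫ ev K' M' =
      (LBase φ).map (tmap r (𝟙 K) ≫ ev K M) ≫ cM) :
    IsIso (bcRHom φ K M) := by
  haveI := isIso_mm φ X K
  -- the uncurried form of `F r ≫ bcRHom`
  have h0 : mm φ X K ≫ (tmap ((LBase φ).map r) (𝟙 ((LBase φ).obj K)) ≫
      tmap (bcRHom φ K M) (𝟙 ((LBase φ).obj K)) ≫
        ev ((LBase φ).obj K) ((LBase φ).obj M)) =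
      (LBase φ).map (tmap r (𝟙 K) ≫ ev K M) := by
    have h := mm_naturality φ r (𝟙 K)
    rw [CategoryTheory.Functor.map_id] at h
    rw [← Category.assoc, ← h, Category.assoc, bcRHom_uncurry φ K M, ← Functor.map_comp]
  have h1 : tmap ((LBase φ).map r) (𝟙 ((LBase φ).obj K)) ≫
      tmap (bcRHom φ K M) (𝟙 ((LBase φ).obj K)) ≫
        ev ((LBase φ).obj K) ((LBase φ).obj M) =
      inv (mm φ X K) ≫ (LBase φ).map (tmap r (𝟙 K) ≫ ev K M) := by
    rw [IsIso.eq_inv_comp]
    exact h0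
  have hA : tmap ((LBase φ).map r) (𝟙 K') ≫ tmap (bcRHom φ K M) (𝟙 K') ≫
      tmap (𝟙 _) (inv cK) = tmap ((LBase φ).map r ≫ bcRHom φ K M) (inv cK) := by
    rw [tmap_left_right, ← tmap_comp', Category.id_comp]
  have hB : tmap (𝟙 ((LBase φ).obj X)) (inv cK) ≫ tmap ((LBase φ).map r) (𝟙 ((LBase φ).obj K)) ≫
      tmap (bcRHom φ K M) (𝟙 ((LBase φ).obj K)) =
      tmap ((LBase φ).map r ≫ bcRHom φ K M) (inv cK) := by
    rw [← Category.assoc, tmap_right_left, ← tmap_comp', Category.comp_id]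
  have key : (LBase φ).map r ≫ bcRHom φ K M ≫ RHomMap (inv cK) ((LBase φ).obj M) ≫
      (RHomR R' K').map cM = cX ≫ r' := by
    apply hom_ext_RHomR
    have s1 : tmap ((LBase φ).map r ≫ bcRHom φ K M ≫ RHomMap (inv cK) ((LBase φ).obj M) ≫
        (RHomR R' K').map cM) (𝟙 K') ≫ ev K' M' =
        tmap ((LBase φ).map r) (𝟙 K') ≫ tmap (bcRHom φ K M) (𝟙 K') ≫
          (tmap (RHomMap (inv cK) ((LBase φ).obj M)) (𝟙 K') ≫ ev K' ((LBase φ).obj M)) ≫ cM := by
      rw [tmap_comp_left, tmap_comp_left, tmap_comp_left]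
      simp only [Category.assoc]
      rw [ev_naturality]
    rw [s1, RHom_map_ev]
    have s2 : tmap ((LBase φ).map r) (𝟙 K') ≫ tmap (bcRHom φ K M) (𝟙 K') ≫
        (tmap (𝟙 _) (inv cK) ≫ ev ((LBase φ).obj K) ((LBase φ).obj M)) ≫ cM =
        tmap (𝟙 _) (inv cK) ≫ (tmap ((LBase φ).map r) (𝟙 ((LBase φ).obj K)) ≫
          tmap (bcRHom φ K M) (𝟙 ((LBase φ).obj K)) ≫
            ev ((LBase φ).obj K) ((LBase φ).obj M)) ≫ cM := by
      have t1 := congrArg (fun t => t ≫ ev ((LBase φ).obj K) ((LBase φ).obj M) ≫ cM) hA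
      have t2 := congrArg (fun t => t ≫ ev ((LBase φ).obj K) ((LBase φ).obj M) ≫ cM) hB
      simp only [Category.assoc] at t1 t2 ⊢
      exact t1.trans t2.symm
    rw [s2, h1, Category.assoc, ← hyp, IsIso.inv_hom_id_assoc, ← Category.assoc, ← tmap_comp',
      Category.id_comp, IsIso.inv_hom_id, tmap_comp_left, Category.assoc]
  haveI : IsIso (RHomMap (inv cK) ((LBase φ).obj M)) := by
    dsimp only [RHomMap]
    haveI h1 : IsIso (inv cK).op := isIso_op _
    haveI h2 : IsIso ((RHom R').map (inv cK).op) := Functor.map_isIso _ _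
    exact NatIso.isIso_app_of_isIso _ _
  have e : bcRHom φ K M = inv ((LBase φ).map r) ≫ (cX ≫ r') ≫
      inv (RHomMap (inv cK) ((LBase φ).obj M) ≫ (RHomR R' K').map cM) := by
    rw [← key]
    simp only [Category.assoc, IsIso.hom_inv_id, Category.comp_id, IsIso.inv_hom_id_assoc]
  rw [e]
  infer_instance

end Groth.Agent.Lib.Helper90.DTen.BC
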