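import Groth.Agent.Lib.Helper90.DTen.BC.BcRHom
import Groth.Agent.Lib.Helper90.DTen.Rho

/-!
# The base change map `bcRHom` on complexes (helper90)

For `P` K-projective and `N` a complex, `bcRHom φ (QP) (QN)` is computed by the complex-level
map `beta : ext Hom•(P, N) ⟶ Hom•(ext P, ext N)`.
-/

set_option autoImplicit false
set_option linter.style.haveILetI false
universe u
open CategoryTheory CategoryTheory.Limits MonoidalCategory
attribute [local instance] HasDerivedCategory.standard

namespace Groth.Agent.Lib.Helper90.DTen.BC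

open _root_.DTen Groth.Agent.Lib.Helper90.DTen Groth.Agent.Lib.Helper26.TensorHomCx
  Groth.Agent.Lib.Helper26.KProjQ Groth.Agent.Lib.Helper26.DTenKProj

section Light

variable {A : Type u} [CommRing A] [HasLTen A] [HasRHom A]

lemma rho_fac' (P L : DRing.Cx A) :
    tmap (rho P L) (𝟙 (DerivedCategory.Q.obj P)) ≫
        ev (DerivedCategory.Q.obj P) (DerivedCategory.Q.obj L) =
      eps (DRing.homCx P L) P ≫ DerivedCategory.Q.map (evCx P L) :=
  ((rhomAdj A (DerivedCategory.Q.obj P)).homEquiv _ _).left_inv _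

lemma comp_rho' {P' : DRing.Cx A} (P L : DRing.Cx A) (g : P' ⟶ DRing.homCx P L) :
    DerivedCategory.Q.map g ≫ rho P L =
      rhomHomEquiv _ _ _ (eps P' P ≫ DerivedCategory.Q.map (uncurryHom g)) := by
  have h1 : DerivedCategory.Q.map g ≫ rho P L = rhomHomEquiv _ _ _
      ((tensorRightD A (DerivedCategory.Q.obj P)).map (DerivedCategory.Q.map g) ≫
        (eps (DRing.homCx P L) P ≫ DerivedCategory.Q.map (evCx P L))) :=
    ((rhomAdj A (DerivedCategory.Q.obj P)).homEquiv_naturality_left _ _).symm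
  rw [h1]
  congr 1
  have h2 := eps_naturality g (𝟙 P)
  have e1 : (tensorRightD A (DerivedCategory.Q.obj P)).map (DerivedCategory.Q.map g) =
      tmap (DerivedCategory.Q.map g) (DerivedCategory.Q.map (𝟙 P)) := by
    rw [CategoryTheory.Functor.map_id]
    rfl
  rw [e1, ← Category.assoc, h2, Category.assoc, ← Functor.map_comp, MonoidalCategory.tensorHom_id,
    ← uncurryHom_eq]

lemma bijective_comp_rho' (P L : DRing.Cx A) [P.IsKProjective] (P' : DRing.Cx A)
    [P'.IsKProjective] :
    Function.Bijective (fun g : DerivedCategory.Q.obj P' ⟶ DerivedCategory.Q.obj (DRing.homCx P L) =>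
      g ≫ rho P L) := by
  haveI : (P' ⊗ P).IsKProjective := isKProjective_tensor P' P
  haveI : IsIso (eps P' P) := isIso_ε A P' P
  constructor
  · intro g g' hgg'
    obtain ⟨g₀, rfl⟩ := Q_map_surjective _ _ g
    obtain ⟨g₀', rfl⟩ := Q_map_surjective _ _ g'
    dsimp only at hgg'
    rw [comp_rho', comp_rho'] at hgg'
    have h1 := (rhomHomEquiv _ _ _).injective hgg'
    have h2 := (cancel_epi _).1 h1
    obtain ⟨H⟩ := nonempty_homotopy_of_Q_map_eq _ _ h2
    have H' := curryHomHomotopy H
    rw [curryHom_uncurryHom, curryHom_uncurryHom] at H'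
    exact Q_map_eq_of_homotopy _ _ H'
  · intro k
    obtain ⟨f, hf⟩ := Q_map_surjective (P' ⊗ P) L (inv (eps P' P) ≫ (rhomHomEquiv _ _ _).symm k)
    refine ⟨DerivedCategory.Q.map (curryHom f), ?_⟩
    dsimp only
    rw [comp_rho', uncurryHom_curryHom, hf, IsIso.hom_inv_id_assoc, Equiv.apply_symm_apply]

/-- `Q(Hom•(P, L)) ⟶ RHom(QP, QL)` is an isomorphism for `P` K-projective. -/
lemma isIso_rho' (P L : DRing.Cx A) [P.IsKProjective] : IsIso (rho P L) :=
  isIso_of_bijective_comp _ (fun P' _ => bijective_comp_rho' P L P')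

end Light

variable {R R' : Type u} [CommRing R] [CommRing R'] (φ : R →+* R')

/-- The complex-level base change map `ext Hom•(P, N) ⟶ Hom•(ext P, ext N)`. -/
noncomputable def beta (P N : DRing.Cx R) :
    (extCx φ).obj (DRing.homCx P N) ⟶ DRing.homCx ((extCx φ).obj P) ((extCx φ).obj N) :=
  curryHom (inv (theta φ (DRing.homCx P N) P) ≫ (extCx φ).map (evCx P N))

lemma uncurryHom_beta (P N : DRing.Cx R) :
    uncurryHom (beta φ P N) = inv (theta φ (DRing.homCx P N) P) ≫ (extCx φ).map (evCx P N) :=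
  uncurryHom_curryHom _

variable [HasLTen R] [HasLTen R'] [HasRHom R] [HasRHom R'] [HasLBase φ] [HasResTen φ] [ResLegIso φ]

omit [HasRHom R] in
/-- The compatibility of the complex-level data with the evaluations. -/
lemma hyp_cx (P N : DRing.Cx R) :
    mm φ (DerivedCategory.Q.obj (DRing.homCx P N)) (DerivedCategory.Q.obj P) ≫
      tmap ((baseCmp φ).app (DRing.homCx P N) ≫ DerivedCategory.Q.map (beta φ P N))
        ((baseCmp φ).app P) ≫
      tmap (rho ((extCx φ).obj P) ((extCx φ).obj N))
        (𝟙 (DerivedCategory.Q.obj ((extCx φ).obj P))) ≫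
      ev (DerivedCategory.Q.obj ((extCx φ).obj P)) (DerivedCategory.Q.obj ((extCx φ).obj N)) =
    (LBase φ).map (eps (DRing.homCx P N) P ≫ DerivedCategory.Q.map (evCx P N)) ≫
      (baseCmp φ).app N := by
  have h1 : tmap ((baseCmp φ).app (DRing.homCx P N) ≫ DerivedCategory.Q.map (beta φ P N))
      ((baseCmp φ).app P) =
      tmap ((baseCmp φ).app (DRing.homCx P N)) ((baseCmp φ).app P) ≫
        tmap (DerivedCategory.Q.map (beta φ P N)) (DerivedCategory.Q.map (𝟙 ((extCx φ).obj P))) := by
    rw [← tmap_comp', CategoryTheory.Functor.map_id]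
    congr 1
    exact (Category.comp_id _).symm
  have h2 : tmap (DerivedCategory.Q.map (beta φ P N))
        (DerivedCategory.Q.map (𝟙 ((extCx φ).obj P))) ≫
      tmap (rho ((extCx φ).obj P) ((extCx φ).obj N))
        (𝟙 (DerivedCategory.Q.obj ((extCx φ).obj P))) ≫
      ev (DerivedCategory.Q.obj ((extCx φ).obj P)) (DerivedCategory.Q.obj ((extCx φ).obj N)) =
      eps ((extCx φ).obj (DRing.homCx P N)) ((extCx φ).obj P) ≫
        DerivedCategory.Q.map (inv (theta φ (DRing.homCx P N) P) ≫ (extCx φ).map (evCx P N)) := by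
    rw [rho_fac', ← Category.assoc, eps_naturality, Category.assoc, ← Functor.map_comp,
      MonoidalCategory.tensorHom_id, ← uncurryHom_eq, uncurryHom_beta]
  have h3 := mm_Q φ (DRing.homCx P N) P
  have h4 := (baseCmp φ).naturality (evCx P N)
  dsimp only [Functor.comp_obj, Functor.comp_map] at h4
  rw [h1, Category.assoc, h2, Functor.map_comp, ← Category.assoc (tmap _ _),
    ← Category.assoc (mm φ _ _), h3, Functor.map_comp]
  simp only [Category.assoc]
  rw [h4]
  congr 2
  rw [← Functor.map_comp, ← Functor.map_comp, IsIso.hom_inv_id_assoc]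

/-- `bcRHom φ K M` is an isomorphism when `K ≅ QP` with `P` K-projective, `M ≅ QN`, derived base
change is computed termwise on `N` and on `Hom•(P, N)`, and `beta` is a quasi-isomorphism. -/
theorem isIso_bcRHom_of_cx (K M : Dual.D R) [IsIso (rhomBC φ K ((LBase φ).obj M))]
    (P N : DRing.Cx R) [P.IsKProjective] (eK : DerivedCategory.Q.obj P ≅ K)
    (eM : DerivedCategory.Q.obj N ≅ M)
    (hH : IsIso ((baseCmp φ).app (DRing.homCx P N))) (hN : IsIso ((baseCmp φ).app N))
    (hβ : QuasiIso (beta φ P N)) : IsIso (bcRHom φ K M) := by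
  haveI := Groth.Agent.Lib.Helper26.DTenSplit.isKProjective_extCx φ P
  haveI : IsIso ((baseCmp φ).app P) := Groth.Agent.Lib.Helper26.DTenSplit.isIso_baseCmp φ P
  haveI : IsIso (rho P N) := isIso_rho' P N
  haveI : IsIso (rho ((extCx φ).obj P) ((extCx φ).obj N)) := isIso_rho' _ _
  haveI : IsIso (DerivedCategory.Q.map (beta φ P N)) := by
    rw [DerivedCategory.isIso_Q_map_iff_quasiIso]
    exact hβ
  haveI : IsIso (RHomMap eK.inv (DerivedCategory.Q.obj N)) := by
    dsimp only [RHomMap]
    haveI h1 : IsIso eK.inv.op := isIso_op _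
    haveI h2 : IsIso ((RHom R).map eK.inv.op) := Functor.map_isIso _ _
    exact NatIso.isIso_app_of_isIso _ _
  -- the data
  let r : DerivedCategory.Q.obj (DRing.homCx P N) ⟶ (RHomR R K).obj M :=
    rho P N ≫ RHomMap eK.inv (DerivedCategory.Q.obj N) ≫ (RHomR R K).map eM.hom
  haveI : IsIso r := by
    dsimp only [r]
    infer_instance
  let cK : (LBase φ).obj K ⟶ DerivedCategory.Q.obj ((extCx φ).obj P) :=
    (LBase φ).map eK.inv ≫ (baseCmp φ).app P
  haveI : IsIso cK := by
    dsimp only [cK]
    infer_instance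
  let cM : (LBase φ).obj M ⟶ DerivedCategory.Q.obj ((extCx φ).obj N) :=
    (LBase φ).map eM.inv ≫ (baseCmp φ).app N
  haveI : IsIso cM := by
    dsimp only [cM]
    infer_instance
  let cX : (LBase φ).obj (DerivedCategory.Q.obj (DRing.homCx P N)) ⟶
      DerivedCategory.Q.obj (DRing.homCx ((extCx φ).obj P) ((extCx φ).obj N)) :=
    (baseCmp φ).app (DRing.homCx P N) ≫ DerivedCategory.Q.map (beta φ P N)
  haveI : IsIso cX := by
    dsimp only [cX]
    infer_instance
  refine isIso_bcRHom_of_data φ K M r cK cM cX (rho ((extCx φ).obj P) ((extCx φ).obj N)) ?_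
  -- the uncurried form of `r`
  have hr : tmap r (𝟙 K) ≫ ev K M =
      tmap (𝟙 _) eK.inv ≫ (eps (DRing.homCx P N) P ≫ DerivedCategory.Q.map (evCx P N)) ≫
        eM.hom := by
    dsimp only [r]
    rw [tmap_comp_left, tmap_comp_left, Category.assoc, Category.assoc, ev_naturality,
      ← Category.assoc (tmap (RHomMap eK.inv _) _), RHom_map_ev, Category.assoc,
      ← Category.assoc (tmap (rho P N) _), tmap_left_right, ← tmap_right_left, Category.assoc,
      ← Category.assoc (tmap (rho P N) _), rho_fac']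
  have hmm := mm_naturality φ (𝟙 (DerivedCategory.Q.obj (DRing.homCx P N))) eK.inv
  rw [CategoryTheory.Functor.map_id] at hmm
  have hc : tmap cX cK =
      tmap (𝟙 ((LBase φ).obj (DerivedCategory.Q.obj (DRing.homCx P N)))) ((LBase φ).map eK.inv) ≫
      tmap ((baseCmp φ).app (DRing.homCx P N) ≫ DerivedCategory.Q.map (beta φ P N))
        ((baseCmp φ).app P) := by
    dsimp only [cX, cK]
    rw [← tmap_comp', Category.id_comp]
  have hL : mm φ (DerivedCategory.Q.obj (DRing.homCx P N)) K ≫ tmap cX cK ≫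
      tmap (rho ((extCx φ).obj P) ((extCx φ).obj N))
        (𝟙 (DerivedCategory.Q.obj ((extCx φ).obj P))) ≫
      ev (DerivedCategory.Q.obj ((extCx φ).obj P)) (DerivedCategory.Q.obj ((extCx φ).obj N)) =
      (LBase φ).map (tmap (𝟙 (DerivedCategory.Q.obj (DRing.homCx P N))) eK.inv) ≫
        ((LBase φ).map (eps (DRing.homCx P N) P ≫ DerivedCategory.Q.map (evCx P N)) ≫
          (baseCmp φ).app N) := by
    rw [hc, ← hyp_cx φ P N, ← Category.assoc ((LBase φ).map _), hmm]
    simp only [Category.assoc]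
  refine hL.trans ?_
  rw [hr]
  dsimp only [cM]
  have e1 : (LBase φ).map eM.hom ≫ (LBase φ).map eM.inv ≫ (baseCmp φ).app N =
      (baseCmp φ).app N := by
    rw [← Category.assoc, ← Functor.map_comp, Iso.hom_inv_id, CategoryTheory.Functor.map_id,
      Category.id_comp]
  rw [Functor.map_comp (LBase φ) (tmap _ eK.inv), Functor.map_comp (LBase φ) _ eM.hom,
    Category.assoc, Category.assoc, e1]

end Groth.Agent.Lib.Helper90.DTen.BC
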