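import Groth.Agent.Lib.Helper90.DTen.BC.BcRHomCx
import Groth.Agent.Lib.Helper90.DTen.CanonHIso2

/-!
# The complex-level base change map `beta` is an isomorphism under finiteness (helper90)
-/

set_option autoImplicit false
set_option linter.style.haveILetI false
set_option backward.isDefEq.respectTransparency false
universe u
open CategoryTheory CategoryTheory.Limits MonoidalCategory CochainComplex CochainComplex.HomComplex
open scoped TensorProduct ChangeOfRings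
attribute [local instance] HasDerivedCategory.standard

namespace Groth.Agent.Lib.Helper90.DTen.BC

open _root_.DTen Groth.Agent.Lib.Helper90.DTen Groth.Agent.Lib.Helper26.TensorHomCx
  Groth.Agent.Lib.Helper28

variable {R R' : Type u} [CommRing R] [CommRing R'] (φ : R →+* R')

/-- extension of scalars on modules -/
noncomputable abbrev Ex : ModuleCat.{u} R ⥤ ModuleCat.{u} R' := ModuleCat.extendScalars.{u, u, u} φ

lemma dlt_one_tmul (M₁ M₂ : ModuleCat.{u} R) (m₁ : M₁) (m₂ : M₂) :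
    (dlt φ M₁ M₂).hom ((1 : R') ⊗ₜ[R,φ] (m₁ ⊗ₜ[R] m₂ : (M₁ ⊗ M₂ : ModuleCat.{u} R))) =
      (((1 : R') ⊗ₜ[R,φ] m₁ : (Ex φ).obj M₁) ⊗ₜ[R'] ((1 : R') ⊗ₜ[R,φ] m₂ : (Ex φ).obj M₂) :
        ((Ex φ).obj M₁ ⊗ (Ex φ).obj M₂ : ModuleCat.{u} R')) :=
  ModuleCat.extendScalars_δ_tmul φ M₁ M₂ m₁ m₂

lemma inv_dlt_tmul (M₁ M₂ : ModuleCat.{u} R) (m₁ : M₁) (m₂ : M₂) :
    (inv (dlt φ M₁ M₂)).hom
      (((1 : R') ⊗ₜ[R,φ] m₁ : (Ex φ).obj M₁) ⊗ₜ[R'] ((1 : R') ⊗ₜ[R,φ] m₂ : (Ex φ).obj M₂) :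
        ((Ex φ).obj M₁ ⊗ (Ex φ).obj M₂ : ModuleCat.{u} R')) =
      (1 : R') ⊗ₜ[R,φ] (m₁ ⊗ₜ[R] m₂ : (M₁ ⊗ M₂ : ModuleCat.{u} R)) := by
  rw [← dlt_one_tmul]
  change (dlt φ M₁ M₂ ≫ inv (dlt φ M₁ M₂)).hom _ = _
  rw [IsIso.hom_inv_id]
  rfl

variable (P N : DRing.Cx R)

lemma ι_inv_theta (X Y : DRing.Cx R) (p q n : ℤ) (h : p + q = n) :
    TensCx.ι ((extCx φ).obj X) ((extCx φ).obj Y) p q n h ≫ (inv (theta φ X Y)).f n =
      inv (dlt φ (X.X p) (Y.X q)) ≫ (Ex φ).map (TensCx.ι X Y p q n h) := by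
  rw [HomologicalComplex.Hom.inv_f_apply, IsIso.comp_inv_eq, Category.assoc, ext_ι_theta,
    IsIso.inv_hom_id_assoc]

/-- The key formula for `beta`. -/
lemma beta_one_tmul (n q m : ℤ) (hq : q + n = m) (z : (DRing.homCx P N).X n) (p : P.X q) :
    ((toCochain (((beta φ P N).f n).hom
      ((1 : R') ⊗ₜ[R,φ] z : (Ex φ).obj ((DRing.homCx P N).X n)))).v q m hq).hom
        ((1 : R') ⊗ₜ[R,φ] p : (Ex φ).obj (P.X q)) =
      ((1 : R') ⊗ₜ[R,φ] (((toCochain z).v q m hq).hom p) : (Ex φ).obj (N.X m)) := by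
  dsimp only [beta]
  rw [curryHom_f_apply_v_apply]
  have h1 : TensCx.ι ((extCx φ).obj (DRing.homCx P N)) ((extCx φ).obj P) n q m (by omega) ≫
      (inv (theta φ (DRing.homCx P N) P) ≫ (extCx φ).map (evCx P N)).f m =
      inv (dlt φ ((DRing.homCx P N).X n) (P.X q)) ≫
        (Ex φ).map (TensCx.ι (DRing.homCx P N) P n q m (by omega) ≫ (evCx P N).f m) := by
    rw [HomologicalComplex.comp_f, ← Category.assoc, ι_inv_theta, Category.assoc, Functor.map_comp]
    rfl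
  rw [h1]
  change ((Ex φ).map (TensCx.ι (DRing.homCx P N) P n q m (by omega) ≫ (evCx P N).f m)).hom
    ((inv (dlt φ ((DRing.homCx P N).X n) (P.X q))).hom _) = _
  rw [inv_dlt_tmul]
  change (1 : R') ⊗ₜ[R,φ] ((TensCx.ι (DRing.homCx P N) P n q m (by omega) ≫
    (evCx P N).f m).hom (z ⊗ₜ[R] p)) = _
  rw [ι_evCx_apply]

lemma one_tmul_smul (M : ModuleCat.{u} R) (r : R) (y : M) :
    ((1 : R') ⊗ₜ[R,φ] (r • y) : (Ex φ).obj M) =
      (φ r) • ((1 : R') ⊗ₜ[R,φ] y : (Ex φ).obj M) := by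
  rw [ModuleCat.ExtendScalars.smul_tmul, mul_one]
  letI : Module R R' := Module.compHom R' φ
  have h := TensorProduct.smul_tmul (R := R) (R' := R) (M := R') (N := M) r (1 : R') y
  have h2 : (r • (1 : R')) = φ r := (mul_one (φ r))
  rw [h2] at h
  exact h.symm

lemma beta_single_self (n q : ℤ) (ψ₀ : P.X q →ₗ[R] R) (p : P.X q) :
    (Ex φ).map (singleHom P N n q (q + n) rfl ψ₀) ≫ (beta φ P N).f n ≫
        evAt ((extCx φ).obj P) ((extCx φ).obj N) n q (q + n) rfl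
          ((1 : R') ⊗ₜ[R,φ] p : (Ex φ).obj (P.X q)) =
      (φ (ψ₀ p)) • 𝟙 ((Ex φ).obj (N.X (q + n))) := by
  apply ModuleCat.ExtendScalars.hom_ext
  intro y
  change (evAt ((extCx φ).obj P) ((extCx φ).obj N) n q (q + n) rfl _).hom
    (((beta φ P N).f n).hom ((1 : R') ⊗ₜ[R,φ] ((singleHom P N n q (q + n) rfl ψ₀).hom y))) =
      (φ (ψ₀ p)) • ((1 : R') ⊗ₜ[R,φ] y : (Ex φ).obj (N.X (q + n)))
  rw [evAt_apply, beta_one_tmul, ← one_tmul_smul]
  congr 1
  exact evAt_singleCochain_self P N n q (q + n) rfl ψ₀ y p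

lemma beta_single_ne (n q : ℤ) (ψ₀ : P.X q →ₗ[R] R) (q' : ℤ) (hne : q' ≠ q) (p : P.X q') :
    (Ex φ).map (singleHom P N n q (q + n) rfl ψ₀) ≫ (beta φ P N).f n ≫
        evAt ((extCx φ).obj P) ((extCx φ).obj N) n q' (q' + n) rfl
          ((1 : R') ⊗ₜ[R,φ] p : (Ex φ).obj (P.X q')) = 0 := by
  apply ModuleCat.ExtendScalars.hom_ext
  intro y
  change (evAt ((extCx φ).obj P) ((extCx φ).obj N) n q' (q' + n) rfl _).hom
    (((beta φ P N).f n).hom ((1 : R') ⊗ₜ[R,φ] ((singleHom P N n q (q + n) rfl ψ₀).hom y))) = 0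
  rw [evAt_apply, beta_one_tmul]
  have h0 : ((toCochain ((singleHom P N n q (q + n) rfl ψ₀).hom y)).v q' (q' + n) rfl).hom p = 0 :=
    evAt_singleCochain_ne P N n q (q + n) rfl ψ₀ y q' (q' + n) rfl hne p
  rw [h0]
  exact TensorProduct.tmul_zero _ _

lemma subsingleton_Ex (M : ModuleCat.{u} R) [Subsingleton M] : Subsingleton ((Ex φ).obj M) := by
  refine ⟨fun a b => ?_⟩
  have h0 : ∀ x : (Ex φ).obj M, x = 0 := by
    intro x
    letI : Module R R' := Module.compHom R' φ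
    refine TensorProduct.induction_on (R := R) (M := R') (N := M) x rfl ?_ ?_
    · intro s y
      have hy : y = 0 := Subsingleton.elim _ _
      rw [hy]
      exact TensorProduct.tmul_zero _ _
    · intro a b ha hb
      rw [ha, hb]
      exact add_zero _
  rw [h0 a, h0 b]

section Recon

variable (k : ℤ → ℕ) (e : ∀ q, Fin (k q) → P.X q) (ψ : ∀ q, Fin (k q) → P.X q →ₗ[R] R)

/-- The candidate inverse of `beta` in degree `n`. -/
noncomputable def gam (n : ℤ) (S : Finset ℤ) :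
    (DRing.homCx ((extCx φ).obj P) ((extCx φ).obj N)).X n ⟶
      ((extCx φ).obj (DRing.homCx P N)).X n :=
  ∑ q ∈ S, ∑ j : Fin (k q),
    evAt ((extCx φ).obj P) ((extCx φ).obj N) n q (q + n) rfl
        ((1 : R') ⊗ₜ[R,φ] e q j : (Ex φ).obj (P.X q)) ≫
      (Ex φ).map (singleHom P N n q (q + n) rfl (ψ q j))

variable (hψ : ∀ q x, ∑ i, ψ q i x • e q i = x)

include hψ in
lemma beta_gam (n : ℤ) (S : Finset ℤ)
    (hS : ∀ q, q ∉ S → Subsingleton (P.X q) ∨ Subsingleton (N.X (q + n))) :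
    (beta φ P N).f n ≫ gam φ P N k e ψ n S = 𝟙 _ := by
  apply ModuleCat.ExtendScalars.hom_ext
  intro z
  change (gam φ P N k e ψ n S).hom (((beta φ P N).f n).hom ((1 : R') ⊗ₜ[R,φ] z)) =
    ((1 : R') ⊗ₜ[R,φ] z : (Ex φ).obj ((DRing.homCx P N).X n))
  dsimp only [gam]
  rw [ModuleCat.hom_sum, LinearMap.sum_apply]
  have h1 : ∀ q ∈ S, (∑ j : Fin (k q),
      evAt ((extCx φ).obj P) ((extCx φ).obj N) n q (q + n) rfl
          ((1 : R') ⊗ₜ[R,φ] e q j : (Ex φ).obj (P.X q)) ≫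
        (Ex φ).map (singleHom P N n q (q + n) rfl (ψ q j))).hom
        (((beta φ P N).f n).hom ((1 : R') ⊗ₜ[R,φ] z)) =
      ((1 : R') ⊗ₜ[R,φ] (∑ j : Fin (k q), (singleHom P N n q (q + n) rfl (ψ q j)).hom
        ((evAt P N n q (q + n) rfl (e q j)).hom z)) : (Ex φ).obj ((DRing.homCx P N).X n)) := by
    intro q _
    rw [ModuleCat.hom_sum, LinearMap.sum_apply, TensorProduct.tmul_sum]
    refine Finset.sum_congr rfl (fun j _ => ?_)
    change ((Ex φ).map (singleHom P N n q (q + n) rfl (ψ q j))).hom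
      ((evAt ((extCx φ).obj P) ((extCx φ).obj N) n q (q + n) rfl _).hom
        (((beta φ P N).f n).hom ((1 : R') ⊗ₜ[R,φ] z))) = _
    rw [evAt_apply, beta_one_tmul]
    rfl
  refine (Finset.sum_congr rfl h1).trans ?_
  have h2 := sum_singleHom_evAt' P N k e ψ hψ n S hS z
  refine (TensorProduct.tmul_sum _ _ _).symm.trans ?_
  exact congrArg (fun t => ((1 : R') ⊗ₜ[R,φ] t : (Ex φ).obj ((DRing.homCx P N).X n))) h2

include hψ in
lemma gam_beta (n : ℤ) (S : Finset ℤ)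
    (hS : ∀ q, q ∉ S → Subsingleton (P.X q) ∨ Subsingleton (N.X (q + n))) :
    gam φ P N k e ψ n S ≫ (beta φ P N).f n = 𝟙 _ := by
  classical
  apply ModuleCat.hom_ext
  apply LinearMap.ext
  intro w
  refine Cochain.ext _ _ (fun q' m' hq' => ?_)
  subst hq'
  apply ModuleCat.ExtendScalars.hom_ext
  intro p
  change (gam φ P N k e ψ n S ≫ (beta φ P N).f n ≫
    evAt ((extCx φ).obj P) ((extCx φ).obj N) n q' (q' + n) rfl
      ((1 : R') ⊗ₜ[R,φ] p : (Ex φ).obj (P.X q'))).hom w =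
    ((toCochain w).v q' (q' + n) rfl).hom ((1 : R') ⊗ₜ[R,φ] p : (Ex φ).obj (P.X q'))
  by_cases hq' : q' ∈ S
  · have h1 : gam φ P N k e ψ n S ≫ (beta φ P N).f n ≫
        evAt ((extCx φ).obj P) ((extCx φ).obj N) n q' (q' + n) rfl
          ((1 : R') ⊗ₜ[R,φ] p : (Ex φ).obj (P.X q')) =
        ∑ j : Fin (k q'), (φ (ψ q' j p)) •
          evAt ((extCx φ).obj P) ((extCx φ).obj N) n q' (q' + n) rfl
            ((1 : R') ⊗ₜ[R,φ] e q' j : (Ex φ).obj (P.X q')) := by
      dsimp only [gam]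
      rw [Preadditive.sum_comp, Finset.sum_eq_single q']
      · rw [Preadditive.sum_comp]
        refine Finset.sum_congr rfl (fun j _ => ?_)
        rw [Category.assoc, beta_single_self, Linear.comp_smul]
        congr 1
      · intro q _ hne
        rw [Preadditive.sum_comp]
        refine Finset.sum_eq_zero (fun j _ => ?_)
        rw [Category.assoc, beta_single_ne φ P N n q (ψ q j) q' (Ne.symm hne) p, comp_zero]
      · intro h
        exact absurd hq' h
    rw [h1, ModuleCat.hom_sum, LinearMap.sum_apply]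
    have h2 : ∀ j : Fin (k q'), ((φ (ψ q' j p)) •
        evAt ((extCx φ).obj P) ((extCx φ).obj N) n q' (q' + n) rfl
          ((1 : R') ⊗ₜ[R,φ] e q' j : (Ex φ).obj (P.X q'))).hom w =
        ((toCochain w).v q' (q' + n) rfl).hom
          ((1 : R') ⊗ₜ[R,φ] (ψ q' j p • e q' j) : (Ex φ).obj (P.X q')) := by
      intro j
      rw [one_tmul_smul, map_smul]
      rfl
    refine (Finset.sum_congr rfl (fun j _ => h2 j)).trans ?_
    rw [← map_sum]
    congr 1
    refine (TensorProduct.tmul_sum _ _ _).symm.trans ?_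
    exact congrArg (fun t => ((1 : R') ⊗ₜ[R,φ] t : (Ex φ).obj (P.X q'))) (hψ q' p)
  · have h1 : gam φ P N k e ψ n S ≫ (beta φ P N).f n ≫
        evAt ((extCx φ).obj P) ((extCx φ).obj N) n q' (q' + n) rfl
          ((1 : R') ⊗ₜ[R,φ] p : (Ex φ).obj (P.X q')) = 0 := by
      dsimp only [gam]
      rw [Preadditive.sum_comp]
      refine Finset.sum_eq_zero (fun q hq => ?_)
      rw [Preadditive.sum_comp]
      refine Finset.sum_eq_zero (fun j _ => ?_)
      have hne : q' ≠ q := fun h => hq' (h ▸ hq)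
      rw [Category.assoc, beta_single_ne φ P N n q (ψ q j) q' hne p, comp_zero]
    rw [h1]
    rcases hS q' hq' with hsub | hsub
    · have hp : p = 0 := Subsingleton.elim _ _
      rw [hp]
      have h0 : ((1 : R') ⊗ₜ[R,φ] (0 : P.X q') : (Ex φ).obj (P.X q')) = 0 :=
        TensorProduct.tmul_zero _ _
      rw [h0, map_zero]
      rfl
    · haveI : Subsingleton (((extCx φ).obj N).X (q' + n)) := subsingleton_Ex φ (N.X (q' + n))
      exact Subsingleton.elim _ _

include hψ in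
/-- `beta` is an isomorphism in degree `n` under the finiteness hypothesis. -/
lemma isIso_beta_f (n : ℤ) (S : Finset ℤ)
    (hS : ∀ q, q ∉ S → Subsingleton (P.X q) ∨ Subsingleton (N.X (q + n))) :
    IsIso ((beta φ P N).f n) :=
  ⟨gam φ P N k e ψ n S, beta_gam φ P N k e ψ hψ n S hS, gam_beta φ P N k e ψ hψ n S hS⟩

end Recon

/-- `beta` is an isomorphism of complexes when all terms of `P` are finite projective and in each
degree only finitely many components contribute. -/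
theorem isIso_beta (hfp : ∀ q, Module.Finite R (P.X q) ∧ Module.Projective R (P.X q))
    (hfin : ∀ n : ℤ, ∃ S : Finset ℤ,
      ∀ q, q ∉ S → Subsingleton (P.X q) ∨ Subsingleton (N.X (q + n))) :
    IsIso (beta φ P N) := by
  choose k e ψ hψ using fun q => (by
    haveI := (hfp q).1
    haveI := (hfp q).2
    exact exists_dualBasis (A := R) (P.X q) :
      ∃ (k : ℕ) (e : Fin k → P.X q) (ψ : Fin k → P.X q →ₗ[R] R), ∀ x, ∑ i, ψ i x • e i = x)
  have : ∀ n, IsIso ((beta φ P N).f n) := by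
    intro n
    obtain ⟨S, hS⟩ := hfin n
    exact isIso_beta_f φ P N k e ψ hψ n S hS
  exact HomologicalComplex.Hom.isIso_of_components _

end Groth.Agent.Lib.Helper90.DTen.BC
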