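import Groth.Agent.Lib.Helper90.DTen.BC.ThetaNat
import Groth.Agent.Lib.Helper90.DTen.BC.BcRHomCx
import Groth.Agent.Lib.Helper6.RHomKProj

/-!
# The adjunction isomorphism `res Hom•(ext P, Y') ≅ Hom•(P, res Y')` on complexes (helper90)
-/

set_option autoImplicit false
set_option backward.isDefEq.respectTransparency false
universe u
open CategoryTheory CategoryTheory.Limits MonoidalCategory
attribute [local instance] HasDerivedCategory.standard

namespace Groth.Agent.Lib.Helper90.DTen.BC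

open _root_.DTen Groth.Agent.Lib.Helper28 Groth.Agent.Lib.Helper26.AdjKProj
  Groth.Agent.Lib.Helper90.DTen Groth.Agent.Lib.Helper26.TensorHomCx

variable {R R' : Type u} [CommRing R] [CommRing R'] (φ : R →+* R')

/-- The bijection `Hom(Z, res Hom•(ext P, Y')) → Hom(Z, Hom•(P, res Y'))`. -/
noncomputable def lamMap {Z P : DRing.Cx R} {Y' : DRing.Cx R'}
    (g : Z ⟶ (resCx φ).obj (DRing.homCx ((extCx φ).obj P) Y')) :
    Z ⟶ DRing.homCx P ((resCx φ).obj Y') :=
  curryHom (adjunct (mAdj φ) (theta φ Z P ≫ uncurryHom (adjunctInv (mAdj φ) g)))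

/-- The inverse bijection. -/
noncomputable def lamMapInv {Z P : DRing.Cx R} {Y' : DRing.Cx R'}
    (h : Z ⟶ DRing.homCx P ((resCx φ).obj Y')) :
    Z ⟶ (resCx φ).obj (DRing.homCx ((extCx φ).obj P) Y') :=
  adjunct (mAdj φ) (curryHom (inv (theta φ Z P) ≫ adjunctInv (mAdj φ) (uncurryHom h)))

lemma lamMap_lamMapInv {Z P : DRing.Cx R} {Y' : DRing.Cx R'}
    (h : Z ⟶ DRing.homCx P ((resCx φ).obj Y')) : lamMap φ (lamMapInv φ h) = h := by
  dsimp only [lamMap, lamMapInv]
  rw [adjunctInv_adjunct, uncurryHom_curryHom, IsIso.hom_inv_id_assoc, adjunct_adjunctInv,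
    curryHom_uncurryHom]

lemma lamMapInv_lamMap {Z P : DRing.Cx R} {Y' : DRing.Cx R'}
    (g : Z ⟶ (resCx φ).obj (DRing.homCx ((extCx φ).obj P) Y')) :
    lamMapInv φ (lamMap φ g) = g := by
  dsimp only [lamMap, lamMapInv]
  rw [uncurryHom_curryHom, adjunctInv_adjunct, IsIso.inv_hom_id_assoc, curryHom_uncurryHom,
    adjunct_adjunctInv]

/-- The comparison `res Hom•(ext P, Y') ⟶ Hom•(P, res Y')`. -/
noncomputable def lam (P : DRing.Cx R) (Y' : DRing.Cx R') :
    (resCx φ).obj (DRing.homCx ((extCx φ).obj P) Y') ⟶ DRing.homCx P ((resCx φ).obj Y') :=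
  lamMap φ (𝟙 _)

lemma comp_lam {Z P : DRing.Cx R} {Y' : DRing.Cx R'}
    (g : Z ⟶ (resCx φ).obj (DRing.homCx ((extCx φ).obj P) Y')) :
    g ≫ lam φ P Y' = lamMap φ g := by
  dsimp only [lam, lamMap]
  rw [← curryHom_comp_left, ← adjunct_comp_left]
  congr 2
  have h1 := theta_naturality φ g (𝟙 P)
  rw [MonoidalCategory.tensorHom_id, CategoryTheory.Functor.map_id,
    MonoidalCategory.tensorHom_id] at h1
  rw [← Category.assoc, h1, Category.assoc, ← uncurryHom_comp_left, ← adjunctInv_comp_left,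
    Category.comp_id]

instance isIso_lam (P : DRing.Cx R) (Y' : DRing.Cx R') : IsIso (lam φ P Y') := by
  apply isIso_of_yoneda_map_bijective
  intro Z
  have e : (fun x : Z ⟶ (resCx φ).obj (DRing.homCx ((extCx φ).obj P) Y') => x ≫ lam φ P Y') =
      lamMap φ := by
    funext x
    exact comp_lam φ x
  rw [e]
  exact ⟨fun a b hab => by rw [← lamMapInv_lamMap φ a, hab, lamMapInv_lamMap],
    fun h => ⟨lamMapInv φ h, lamMap_lamMapInv φ h⟩⟩

/-- Naturality of `uncurryHom` in the target. -/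
lemma uncurryHom_comp_right {K L Z Z' : DRing.Cx R} (h : K ⟶ DRing.homCx L Z) (g : Z ⟶ Z') :
    uncurryHom (h ≫ DRing.homCxMap L g) = uncurryHom h ≫ g := by
  ext n : 1
  apply TensCx.hom_ext
  intro p q hpq
  apply ModuleCat.MonoidalCategory.tensor_ext
  intro x y
  rw [ι_uncurryHom_apply]
  have h2 : TensCx.ι K L p q n hpq ≫ (uncurryHom h ≫ g).f n =
      (TensCx.ι K L p q n hpq ≫ (uncurryHom h).f n) ≫ g.f n := by
    rw [HomologicalComplex.comp_f, Category.assoc]
  rw [h2]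
  change _ = (g.f n).hom ((TensCx.ι K L p q n hpq ≫ (uncurryHom h).f n).hom (x ⊗ₜ[R] y))
  rw [ι_uncurryHom_apply]
  change (((toCochain ((h.f p).hom x)).comp (CochainComplex.HomComplex.Cochain.ofHom g)
    (add_zero p)).v q n _).hom y = _
  rw [CochainComplex.HomComplex.Cochain.comp_zero_cochain_v,
    CochainComplex.HomComplex.Cochain.ofHom_v]
  rfl

lemma curryHom_comp_right {K L Z Z' : DRing.Cx R} (f : K ⊗ L ⟶ Z) (g : Z ⟶ Z') :
    curryHom (f ≫ g) = curryHom f ≫ DRing.homCxMap L g := by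
  rw [← curryHom_uncurryHom (curryHom f ≫ DRing.homCxMap L g), uncurryHom_comp_right,
    uncurryHom_curryHom]

end Groth.Agent.Lib.Helper90.DTen.BC
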