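import Groth.Agent.Lib.Helper90.DTen.BC.Beta
import Groth.Agent.Lib.Helper90.DTen.HomCxPre

/-!
# Base change for derived hom: `bcRHom` is an isomorphism for `K` perfect (helper90)
-/

set_option autoImplicit false
set_option linter.style.haveILetI false
universe u
open CategoryTheory CategoryTheory.Limits MonoidalCategory
attribute [local instance] HasDerivedCategory.standard

namespace Groth.Agent.Lib.Helper90.DTen.BC

open _root_.DTen Groth.Agent.Lib.Helper90.DTen

variable {R R' : Type u} [CommRing R] [CommRing R'] (φ : R →+* R')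
  [HasLTen R] [HasLTen R'] [HasRHom R] [HasRHom R'] [HasLBase φ] [HasResTen φ] [ResLegIso φ]

theorem isIso_bcRHom_of_isPerfect (K M : Dual.D R)
    [IsIso (rhomBC φ K ((LBase φ).obj M))] (hK : DRing.IsPerfect R K) :
    IsIso (bcRHom φ K M) := by
  obtain ⟨E, a, b, hE, hfp, ⟨eK⟩⟩ := hK
  obtain ⟨N, hN, ⟨eM⟩⟩ := Groth.Agent.Lib.Helper32.LBC.exists_kproj_iso M
  haveI : E.IsKProjective := Groth.Agent.Lib.Helper32.LBC.isKProjective_of_vanishesAbove E b
    (fun i hi => hE i (Or.inr hi)) (fun i => (hfp i).2)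
  have hNbc : IsIso ((baseCmp φ).app N) := Groth.Agent.Lib.Helper26.DTenSplit.isIso_baseCmp φ N
  have hHflat : DRing.IsKFlat R (DRing.homCx E N) := fun L hL i =>
    kflat_homCx_of_perfect E N b (fun i hi => hE i (Or.inr hi)) (fun i => (hfp i).2)
      ⟨E, a, b, hE, hfp, ⟨Iso.refl _⟩⟩
      (Groth.Agent.Lib.Helper28.KProjFlat.kflat_of_isKProjective N) L hL i
  have hH : IsIso ((baseCmp φ).app (DRing.homCx E N)) :=
    Groth.Agent.Lib.Helper26.BaseCmpKFlat.isIso_baseCmp_of_isKFlat φ _ hHflat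
  haveI hβ : IsIso (beta φ E N) := by
    refine isIso_beta φ E N hfp (fun n => ⟨Finset.Icc a b, fun q hq => Or.inl ?_⟩)
    have hq' : q < a ∨ b < q := by
      rw [Finset.mem_Icc] at hq
      omega
    exact ModuleCat.subsingleton_of_isZero (hE q hq')
  exact isIso_bcRHom_of_cx φ K M E N eK eM hH hNbc inferInstance

end Groth.Agent.Lib.Helper90.DTen.BC
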