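import Groth.Agent.Lib.Helper90.DTen.BC.Main

/-!
# Base change for derived hom: flat base change, `K` pseudo-coherent, `M` bounded below (helper90)
-/

set_option autoImplicit false
set_option linter.style.haveILetI false
universe u
open CategoryTheory CategoryTheory.Limits MonoidalCategory
attribute [local instance] HasDerivedCategory.standard

namespace Groth.Agent.Lib.Helper90.DTen.BC

open _root_.DTen Groth.Agent.Lib.Helper90.DTen

variable {R R' : Type u} [CommRing R] [CommRing R'] (φ : R →+* R')

/-- For `φ` flat, derived base change is computed termwise on every complex. -/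
theorem isIso_baseCmp_of_flat [HasLBase φ] (hφ : φ.Flat) (K : DRing.Cx R) :
    IsIso ((baseCmp φ).app K) := by
  haveI := ModuleCat.preservesFiniteLimits_extendScalars_of_flat.{u} hφ
  haveI : PreservesFiniteColimits (ModuleCat.extendScalars.{u, u, u} φ) := inferInstance
  obtain ⟨P, f, hP, hf⟩ := Groth.Agent.Lib.Helper32.LBC.hasKProjRes R K
  haveI := hP
  haveI := hf
  haveI hq : QuasiIso ((extCx φ).map f) := by
    dsimp only [extCx]
    infer_instance
  have nat := (baseCmp φ).naturality f
  haveI : IsIso ((baseCmp φ).app P) := Groth.Agent.Lib.Helper26.DTenSplit.isIso_baseCmp φ P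
  haveI h1 : IsIso (DerivedCategory.Q.map f) := by
    rw [DerivedCategory.isIso_Q_map_iff_quasiIso]; infer_instance
  haveI h2 : IsIso (DerivedCategory.Q.map ((extCx φ).map f)) := by
    rw [DerivedCategory.isIso_Q_map_iff_quasiIso]; infer_instance
  haveI h3 : IsIso ((DerivedCategory.Q ⋙ LBase φ).map f) := by
    dsimp only [Functor.comp_map]; infer_instance
  haveI h4 : IsIso ((extCx φ ⋙ DerivedCategory.Q).map f) := by
    dsimp only [Functor.comp_map]; infer_instance
  have : (baseCmp φ).app K =
      inv ((DerivedCategory.Q ⋙ LBase φ).map f) ≫ (baseCmp φ).app P ≫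
        (extCx φ ⋙ DerivedCategory.Q).map f := by
    rw [← nat, IsIso.inv_hom_id_assoc]
  rw [this]
  infer_instance

variable [HasLTen R] [HasLTen R'] [HasRHom R] [HasRHom R'] [HasLBase φ] [HasResTen φ] [ResLegIso φ]

theorem isIso_bcRHom_of_flat_of_isPseudoCoherent (hφ : φ.Flat) (K M : Dual.D R)
    [IsIso (rhomBC φ K ((LBase φ).obj M))] (hK : DRing.IsPseudoCoherent' R K) (n : ℤ)
    (hM : DerivedCategory.IsGE M n) :
    IsIso (bcRHom φ K M) := by
  obtain ⟨E, b, hE, hff, ⟨eK⟩⟩ := hK
  obtain ⟨N, hN, ⟨eM⟩⟩ := DerivedCategory.exists_iso_Q_obj_of_isGE M n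
  have hfp : ∀ q, Module.Finite R (E.X q) ∧ Module.Projective R (E.X q) := fun q => by
    haveI := (hff q).2
    exact ⟨(hff q).1, inferInstance⟩
  haveI : E.IsKProjective := Groth.Agent.Lib.Helper32.LBC.isKProjective_of_vanishesAbove E b
    hE (fun i => (hfp i).2)
  have hNbc : IsIso ((baseCmp φ).app N) := isIso_baseCmp_of_flat φ hφ N
  have hH : IsIso ((baseCmp φ).app (DRing.homCx E N)) := isIso_baseCmp_of_flat φ hφ _
  haveI hβ : IsIso (beta φ E N) := by
    refine isIso_beta φ E N hfp (fun d => ⟨Finset.Icc (n - d) b, fun q hq => ?_⟩)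
    have hq' : q + d < n ∨ b < q := by
      rw [Finset.mem_Icc] at hq
      omega
    rcases hq' with h | h
    · exact Or.inr (ModuleCat.subsingleton_of_isZero (N.isZero_of_isStrictlyGE n (q + d) h))
    · exact Or.inl (ModuleCat.subsingleton_of_isZero (hE q h))
  exact isIso_bcRHom_of_cx φ K M E N eK eM.symm hH hNbc inferInstance

end Groth.Agent.Lib.Helper90.DTen.BC
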