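import Groth.Agent.Lib.Helper90.DTen.BC.Theta
import Groth.Agent.Lib.Helper90.DTen.DLevel
import Groth.Agent.Lib.Helper26.BaseCmpKFlat

/-!
# Derived base change is strong monoidal (helper90)

`mm T K : (T ⊗^L K) ⊗^L_R R' ⟶ (T ⊗^L_R R') ⊗^L_{R'} (K ⊗^L_R R')`, the adjunct of
`(unit ⊗ unit) ≫ resPF`, is an isomorphism.
-/

set_option autoImplicit false
set_option linter.style.haveILetI false
universe u
open CategoryTheory CategoryTheory.Limits MonoidalCategory
attribute [local instance] HasDerivedCategory.standard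

namespace Groth.Agent.Lib.Helper90.DTen.BC

open _root_.DTen Groth.Agent.Lib.Helper90.DTen

section Light

variable {A : Type u} [CommRing A] [HasLTen A]

lemma tmap_comp' {a a' a'' b b' b'' : Dual.D A} (f : a ⟶ a') (f' : a' ⟶ a'') (g : b ⟶ b')
    (g' : b' ⟶ b'') : tmap (f ≫ f') (g ≫ g') = tmap f g ≫ tmap f' g' := by
  dsimp only [tmap]
  rw [← Functor.map_comp]
  rfl

lemma tmap_id' (a b : Dual.D A) : tmap (𝟙 a) (𝟙 b) = 𝟙 ((LTen₂ A).obj (a, b)) :=
  (LTen₂ A).map_id (a, b)

end Light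

variable {R R' : Type u} [CommRing R] [CommRing R'] (φ : R →+* R')
  [HasLTen R] [HasLTen R'] [HasLBase φ] [HasResTen φ] [ResLegIso φ]

omit [HasLBase φ] in
/-- Naturality of `resPF`. -/
lemma resPF_naturality {E₁ E₁' E₂ E₂' : Dual.D R'} (f : E₁ ⟶ E₁') (g : E₂ ⟶ E₂') :
    tmap ((DRing.restrictD φ).map f) ((DRing.restrictD φ).map g) ≫ (resPF φ).app (E₁', E₂') =
      (resPF φ).app (E₁, E₂) ≫ (DRing.restrictD φ).map (tmap f g) :=
  (resPF φ).naturality (Prod.mkHom f g : (E₁, E₂) ⟶ (E₁', E₂'))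

omit [HasLBase φ] in
/-- `resPF` on images of complexes, through the counits. -/
lemma resPF_eps (X' Y' : DRing.Cx R') :
    (resPF φ).app (DerivedCategory.Q.obj X', DerivedCategory.Q.obj Y') ≫
        (DRing.restrictD φ).map (eps X' Y') =
      tmap ((resFactors φ).hom.app X') ((resFactors φ).hom.app Y') ≫
        eps ((resCx φ).obj X') ((resCx φ).obj Y') ≫ DerivedCategory.Q.map (resTenCx φ X' Y') ≫
          (resFactors φ).inv.app (X' ⊗ Y') := by
  have h := resPF_fac φ (X', Y')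
  have e1 : (resβB φ).app (X', Y') =
      (DRing.restrictD φ).map (eps X' Y') ≫ (resFactors φ).hom.app (X' ⊗ Y') := rfl
  have e2 : (resβA φ).app (X', Y') =
      tmap ((resFactors φ).hom.app X') ((resFactors φ).hom.app Y') ≫
        eps ((resCx φ).obj X') ((resCx φ).obj Y') ≫ DerivedCategory.Q.map (resTenCx φ X' Y') := rfl
  rw [e1, e2] at h
  apply (cancel_mono ((resFactors φ).hom.app (X' ⊗ Y'))).1
  refine ((Category.assoc _ _ _).trans h).trans ?_
  simp only [Category.assoc]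
  erw [Iso.inv_hom_id_app]
  erw [Category.comp_id]

/-- The lax structure map `T ⊗^L K ⟶ res ((T ⊗^L R') ⊗^L (K ⊗^L R'))`. -/
noncomputable def mu (T K : Dual.D R) :
    (LTen₂ R).obj (T, K) ⟶
      (DRing.restrictD φ).obj ((LTen₂ R').obj ((LBase φ).obj T, (LBase φ).obj K)) :=
  tmap ((baseAdj φ).unit.app T) ((baseAdj φ).unit.app K) ≫
    (resPF φ).app ((LBase φ).obj T, (LBase φ).obj K)

/-- The oplax structure map of derived base change. -/
noncomputable def mm (T K : Dual.D R) :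
    (LBase φ).obj ((LTen₂ R).obj (T, K)) ⟶ (LTen₂ R').obj ((LBase φ).obj T, (LBase φ).obj K) :=
  ((baseAdj φ).homEquiv _ _).symm (mu φ T K)

lemma unit_mm (T K : Dual.D R) :
    (baseAdj φ).unit.app _ ≫ (DRing.restrictD φ).map (mm φ T K) = mu φ T K := by
  exact ((baseAdj φ).homEquiv_unit _ _ _).symm.trans (Equiv.apply_symm_apply _ _)

omit [HasLTen R] [HasLTen R'] [HasResTen φ] [ResLegIso φ] in
lemma hom_ext_LBase {T : Dual.D R} {E : Dual.D R'} {f g : (LBase φ).obj T ⟶ E}
    (h : (baseAdj φ).unit.app T ≫ (DRing.restrictD φ).map f =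
      (baseAdj φ).unit.app T ≫ (DRing.restrictD φ).map g) : f = g := by
  apply ((baseAdj φ).homEquiv _ _).injective
  rw [Adjunction.homEquiv_unit, Adjunction.homEquiv_unit]
  exact h

lemma mu_naturality {T T' K K' : Dual.D R} (f : T ⟶ T') (g : K ⟶ K') :
    tmap f g ≫ mu φ T' K' =
      mu φ T K ≫ (DRing.restrictD φ).map (tmap ((LBase φ).map f) ((LBase φ).map g)) := by
  dsimp only [mu]
  rw [Category.assoc, ← resPF_naturality, ← Category.assoc, ← Category.assoc, ← tmap_comp',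
    ← tmap_comp']
  congr 2
  · exact (baseAdj φ).unit.naturality f
  · exact (baseAdj φ).unit.naturality g

lemma mm_naturality {T T' K K' : Dual.D R} (f : T ⟶ T') (g : K ⟶ K') :
    (LBase φ).map (tmap f g) ≫ mm φ T' K' =
      mm φ T K ≫ tmap ((LBase φ).map f) ((LBase φ).map g) := by
  apply hom_ext_LBase
  rw [Functor.map_comp, Functor.map_comp, ← Category.assoc, ← Category.assoc, unit_mm]
  have h := (baseAdj φ).unit.naturality (tmap f g)
  dsimp only [Functor.id_obj, Functor.id_map, Functor.comp_obj, Functor.comp_map] at h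
  rw [← h, Category.assoc, unit_mm]
  exact mu_naturality φ f g

/-- The core computation: `mu` on images of complexes. -/
lemma mu_Q (X Y : DRing.Cx R) :
    mu φ (DerivedCategory.Q.obj X) (DerivedCategory.Q.obj Y) ≫
        (DRing.restrictD φ).map (tmap ((baseCmp φ).app X) ((baseCmp φ).app Y) ≫
          eps ((extCx φ).obj X) ((extCx φ).obj Y)) =
      eps X Y ≫ DerivedCategory.Q.map (cMap φ X Y) ≫
        (resFactors φ).inv.app ((extCx φ).obj X ⊗ (extCx φ).obj Y) := by
  have hγ : ∀ Z : DRing.Cx R, (baseAdj φ).unit.app (DerivedCategory.Q.obj Z) ≫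
      (DRing.restrictD φ).map ((baseCmp φ).app Z) =
      DerivedCategory.Q.map ((unitCx φ).app Z) ≫ (resFactors φ).inv.app ((extCx φ).obj Z) :=
    fun Z => baseCmp_fac φ Z
  have hγ' : ∀ Z : DRing.Cx R, ((baseAdj φ).unit.app (DerivedCategory.Q.obj Z) ≫
      (DRing.restrictD φ).map ((baseCmp φ).app Z)) ≫ (resFactors φ).hom.app ((extCx φ).obj Z) =
      DerivedCategory.Q.map ((unitCx φ).app Z) := by
    intro Z
    rw [hγ Z, Category.assoc]
    erw [Iso.inv_hom_id_app]
    exact Category.comp_id _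
  have s1 : mu φ (DerivedCategory.Q.obj X) (DerivedCategory.Q.obj Y) ≫
        (DRing.restrictD φ).map (tmap ((baseCmp φ).app X) ((baseCmp φ).app Y) ≫
          eps ((extCx φ).obj X) ((extCx φ).obj Y)) =
      tmap ((baseAdj φ).unit.app (DerivedCategory.Q.obj X) ≫
          (DRing.restrictD φ).map ((baseCmp φ).app X))
        ((baseAdj φ).unit.app (DerivedCategory.Q.obj Y) ≫
          (DRing.restrictD φ).map ((baseCmp φ).app Y)) ≫
        ((resPF φ).app (DerivedCategory.Q.obj ((extCx φ).obj X),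
          DerivedCategory.Q.obj ((extCx φ).obj Y)) ≫
        (DRing.restrictD φ).map (eps ((extCx φ).obj X) ((extCx φ).obj Y))) := by
    dsimp only [mu]
    rw [Functor.map_comp, tmap_comp', Category.assoc, Category.assoc]
    congr 1
    rw [← Category.assoc, ← Category.assoc]
    congr 1
    exact (resPF_naturality φ ((baseCmp φ).app X) ((baseCmp φ).app Y)).symm
  have h3 : tmap (DerivedCategory.Q.map ((unitCx φ).app X))
      (DerivedCategory.Q.map ((unitCx φ).app Y)) ≫
        eps ((resCx φ).obj ((extCx φ).obj X)) ((resCx φ).obj ((extCx φ).obj Y)) =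
      eps X Y ≫ DerivedCategory.Q.map ((unitCx φ).app X ⊗ₘ (unitCx φ).app Y) :=
    eps_naturality _ _
  rw [s1, resPF_eps, ← Category.assoc, ← tmap_comp', hγ' X, hγ' Y, ← Category.assoc, h3,
    Category.assoc]
  congr 1
  rw [← Category.assoc, ← Functor.map_comp]
  rfl

/-- `mm` on images of complexes is computed by `theta`. -/
lemma mm_Q (X Y : DRing.Cx R) :
    mm φ (DerivedCategory.Q.obj X) (DerivedCategory.Q.obj Y) ≫
        (tmap ((baseCmp φ).app X) ((baseCmp φ).app Y) ≫ eps ((extCx φ).obj X) ((extCx φ).obj Y)) =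
      (LBase φ).map (eps X Y) ≫ (baseCmp φ).app (X ⊗ Y) ≫
        DerivedCategory.Q.map (theta φ X Y) := by
  apply hom_ext_LBase
  have hL : (baseAdj φ).unit.app _ ≫ (DRing.restrictD φ).map
      (mm φ (DerivedCategory.Q.obj X) (DerivedCategory.Q.obj Y) ≫
        (tmap ((baseCmp φ).app X) ((baseCmp φ).app Y) ≫
          eps ((extCx φ).obj X) ((extCx φ).obj Y))) =
      eps X Y ≫ DerivedCategory.Q.map (cMap φ X Y) ≫
        (resFactors φ).inv.app ((extCx φ).obj X ⊗ (extCx φ).obj Y) := by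
    rw [Functor.map_comp, ← Category.assoc, unit_mm, mu_Q]
  have hR : (baseAdj φ).unit.app _ ≫ (DRing.restrictD φ).map
      ((LBase φ).map (eps X Y) ≫ (baseCmp φ).app (X ⊗ Y) ≫
        DerivedCategory.Q.map (theta φ X Y)) =
      eps X Y ≫ DerivedCategory.Q.map (cMap φ X Y) ≫
        (resFactors φ).inv.app ((extCx φ).obj X ⊗ (extCx φ).obj Y) := by
    rw [Functor.map_comp, Functor.map_comp]
    have h := (baseAdj φ).unit.naturality (eps X Y)
    dsimp only [Functor.id_obj, Functor.id_map, Functor.comp_obj, Functor.comp_map] at h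
    rw [← Category.assoc, ← h, Category.assoc]
    congr 1
    have h2 : (baseAdj φ).unit.app (DerivedCategory.Q.obj (X ⊗ Y)) ≫
        (DRing.restrictD φ).map ((baseCmp φ).app (X ⊗ Y)) =
        DerivedCategory.Q.map ((unitCx φ).app (X ⊗ Y)) ≫
          (resFactors φ).inv.app ((extCx φ).obj (X ⊗ Y)) := baseCmp_fac φ (X ⊗ Y)
    rw [← Category.assoc, h2, Category.assoc]
    have h3 := (resFactors φ).inv.naturality (theta φ X Y)
    dsimp only [Functor.comp_obj, Functor.comp_map] at h3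
    rw [← h3, ← Category.assoc, ← Functor.map_comp, adjunct_theta]
  exact hL.trans hR.symm

lemma isIso_mm_Q (P₁ P₂ : DRing.Cx R) [P₁.IsKProjective] [P₂.IsKProjective] :
    IsIso (mm φ (DerivedCategory.Q.obj P₁) (DerivedCategory.Q.obj P₂)) := by
  have h := mm_Q φ P₁ P₂
  haveI := Groth.Agent.Lib.Helper26.DTenSplit.isKProjective_extCx φ P₁
  haveI := Groth.Agent.Lib.Helper26.DTenSplit.isKProjective_extCx φ P₂
  haveI : (P₁ ⊗ P₂).IsKProjective :=
    Groth.Agent.Lib.Helper26.TensorHomCx.isKProjective_tensor P₁ P₂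
  haveI : IsIso ((baseCmp φ).app P₁) := Groth.Agent.Lib.Helper26.DTenSplit.isIso_baseCmp φ P₁
  haveI : IsIso ((baseCmp φ).app P₂) := Groth.Agent.Lib.Helper26.DTenSplit.isIso_baseCmp φ P₂
  haveI : IsIso ((baseCmp φ).app (P₁ ⊗ P₂)) :=
    Groth.Agent.Lib.Helper26.DTenSplit.isIso_baseCmp φ (P₁ ⊗ P₂)
  haveI : IsIso (eps P₁ P₂) := Groth.Agent.Lib.Helper26.DTenKProj.isIso_ε R P₁ P₂
  haveI : IsIso (eps ((extCx φ).obj P₁) ((extCx φ).obj P₂)) :=
    Groth.Agent.Lib.Helper26.DTenKProj.isIso_ε R' _ _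
  haveI : IsIso (tmap ((baseCmp φ).app P₁) ((baseCmp φ).app P₂)) := isIso_tmap _ _
  haveI : IsIso (DerivedCategory.Q.map (theta φ P₁ P₂)) := inferInstance
  have h' : mm φ (DerivedCategory.Q.obj P₁) (DerivedCategory.Q.obj P₂) =
      ((LBase φ).map (eps P₁ P₂) ≫ (baseCmp φ).app (P₁ ⊗ P₂) ≫
        DerivedCategory.Q.map (theta φ P₁ P₂)) ≫
      inv (tmap ((baseCmp φ).app P₁) ((baseCmp φ).app P₂) ≫
        eps ((extCx φ).obj P₁) ((extCx φ).obj P₂)) := by
    rw [← h, Category.assoc, IsIso.hom_inv_id, Category.comp_id]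
  rw [h']
  infer_instance

/-- Derived base change is strong monoidal. -/
theorem isIso_mm (T K : Dual.D R) : IsIso (mm φ T K) := by
  obtain ⟨P₁, hP₁, ⟨e₁⟩⟩ := Groth.Agent.Lib.Helper32.LBC.exists_kproj_iso T
  obtain ⟨P₂, hP₂, ⟨e₂⟩⟩ := Groth.Agent.Lib.Helper32.LBC.exists_kproj_iso K
  haveI := isIso_mm_Q φ P₁ P₂
  have h := mm_naturality φ e₁.hom e₂.hom
  haveI : IsIso (tmap e₁.hom e₂.hom) := isIso_tmap _ _
  haveI : IsIso (tmap ((LBase φ).map e₁.hom) ((LBase φ).map e₂.hom)) := isIso_tmap _ _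
  have h' : mm φ T K = inv ((LBase φ).map (tmap e₁.hom e₂.hom)) ≫
      (mm φ (DerivedCategory.Q.obj P₁) (DerivedCategory.Q.obj P₂) ≫
        tmap ((LBase φ).map e₁.hom) ((LBase φ).map e₂.hom)) := by
    rw [← h, IsIso.inv_hom_id_assoc]
  rw [h']
  infer_instance

end Groth.Agent.Lib.Helper90.DTen.BC
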