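import Groth.Agent.Lib.Helper90.DTen.BC.MuCore

/-!
# The comparison `rhomBC` is an isomorphism (helper90)
-/

set_option autoImplicit false
set_option linter.style.haveILetI false
universe u
open CategoryTheory CategoryTheory.Limits MonoidalCategory
attribute [local instance] HasDerivedCategory.standard

namespace Groth.Agent.Lib.Helper90.DTen.BC

open _root_.DTen Groth.Agent.Lib.Helper90.DTen

variable {R R' : Type u} [CommRing R] [CommRing R'] (φ : R →+* R')
  [HasLTen R] [HasLTen R'] [HasRHom R] [HasRHom R'] [HasLBase φ] [HasResTen φ] [ResLegIso φ]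

/-- Postcomposition with `rhomBC` in terms of the adjunction bijections and `mm`. -/
lemma comp_rhomBC {T : Dual.D R} (K : Dual.D R) (M : Dual.D R')
    (g : T ⟶ (DRing.restrictD φ).obj ((RHomR R' ((LBase φ).obj K)).obj M)) :
    g ≫ rhomBC φ K M =
      rhomHomEquiv T K _ ((baseAdj φ).homEquiv _ _ (mm φ T K ≫
        (rhomHomEquiv _ _ _).symm (((baseAdj φ).homEquiv _ _).symm g))) := by
  have h1 : g ≫ rhomBC φ K M = rhomHomEquiv T K _
      ((tensorRightD R K).map g ≫ rhomBCCore φ K M) :=
    ((rhomAdj R K).homEquiv_naturality_left g _).symm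
  rw [h1]
  congr 1
  set g' := ((baseAdj φ).homEquiv _ _).symm g with hg'
  have hg : g = (baseAdj φ).unit.app T ≫ (DRing.restrictD φ).map g' := by
    exact ((Equiv.apply_symm_apply _ g).symm).trans ((baseAdj φ).homEquiv_unit _ _ _)
  have e1 : (rhomHomEquiv ((LBase φ).obj T) ((LBase φ).obj K) M).symm g' =
      tmap g' (𝟙 ((LBase φ).obj K)) ≫ ev ((LBase φ).obj K) M :=
    (rhomAdj R' ((LBase φ).obj K)).homEquiv_counit _ _ g'
  rw [Adjunction.homEquiv_unit, Functor.map_comp, ← Category.assoc, unit_mm, e1]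
  have e2 : (tensorRightD R K).map g = tmap g (𝟙 K) := rfl
  rw [e2]
  dsimp only [rhomBCCore, mu]
  rw [← Category.assoc, ← tmap_comp', Category.comp_id, Category.id_comp, Functor.map_comp,
    Category.assoc, ← Category.assoc ((resPF φ).app _), ← resPF_naturality, Category.assoc]
  have e3 : tmap ((baseAdj φ).unit.app T) ((baseAdj φ).unit.app K) ≫
      tmap ((DRing.restrictD φ).map g') ((DRing.restrictD φ).map (𝟙 ((LBase φ).obj K))) =
      tmap g ((baseAdj φ).unit.app K) := by
    rw [← tmap_comp', ← hg, CategoryTheory.Functor.map_id]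
    erw [Category.comp_id]
  rw [← Category.assoc (tmap ((baseAdj φ).unit.app T) ((baseAdj φ).unit.app K)), e3]

/-- `rhomBC` is an isomorphism. -/
theorem isIso_rhomBC (K : Dual.D R) (M : Dual.D R') : IsIso (rhomBC φ K M) := by
  have hb : ∀ T : Dual.D R, Function.Bijective
      (fun g : T ⟶ (DRing.restrictD φ).obj ((RHomR R' ((LBase φ).obj K)).obj M) =>
        g ≫ rhomBC φ K M) := by
    intro T
    haveI := isIso_mm φ T K
    have e : (fun g : T ⟶ (DRing.restrictD φ).obj ((RHomR R' ((LBase φ).obj K)).obj M) =>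
        g ≫ rhomBC φ K M) = fun g => rhomHomEquiv T K _ ((baseAdj φ).homEquiv _ _ (mm φ T K ≫
        (rhomHomEquiv _ _ _).symm (((baseAdj φ).homEquiv _ _).symm g))) := by
      funext g
      exact comp_rhomBC φ K M g
    rw [e]
    refine (Equiv.bijective _).comp ((Equiv.bijective _).comp ?_)
    refine Function.Bijective.comp (g := fun h => mm φ T K ≫ h) ?_
      ((Equiv.bijective _).comp (Equiv.bijective _))
    exact ⟨fun a b h => (cancel_epi _).1 h, fun b => ⟨inv (mm φ T K) ≫ b, by simp⟩⟩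
  obtain ⟨s, hs⟩ := (hb _).2 (𝟙 _)
  have hs' : s ≫ rhomBC φ K M = 𝟙 _ := hs
  refine ⟨s, ?_, hs'⟩
  apply (hb _).1
  change (rhomBC φ K M ≫ s) ≫ rhomBC φ K M = 𝟙 _ ≫ rhomBC φ K M
  rw [Category.assoc, hs', Category.comp_id, Category.id_comp]

end Groth.Agent.Lib.Helper90.DTen.BC
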