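import Groth.Agent.Lib.Helper90.DTen.BC.UMap

/-!
# The isomorphism `res 𝟙 ⊗ X ≅ res (ext X)` of complexes (helper90)
-/

set_option autoImplicit false
set_option backward.isDefEq.respectTransparency false
universe u
open CategoryTheory CategoryTheory.Limits MonoidalCategory
open scoped TensorProduct ChangeOfRings
attribute [local instance] HasDerivedCategory.standard

namespace Groth.Agent.Lib.Helper90.DTen.BC

open _root_.DTen Groth.Agent.Lib.Helper28 Groth.Agent.Lib.Helper26.AdjKProj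
  Groth.Agent.Lib.Helper90.DTen Groth.Agent.Lib.Helper26.TensorHomCx

section OneSummand

variable {R : Type u} [CommRing R]

/-- If `L` is concentrated in degree `p₀`, the summand `(p₀, q₀)` is all of `(L ⊗ K).X n`. -/
lemma isIso_ι_of_isZero (L K : DRing.Cx R) (p₀ q₀ n : ℤ) (h : p₀ + q₀ = n)
    (hL : ∀ p, p ≠ p₀ → IsZero (L.X p)) : IsIso (TensCx.ι L K p₀ q₀ n h) := by
  refine ⟨TensCx.proj L K p₀ q₀ n h, TensCx.ι_proj_self L K p₀ q₀ n h, ?_⟩
  apply TensCx.hom_ext
  intro p q hpq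
  by_cases hp : p = p₀
  · subst hp
    obtain rfl : q = q₀ := by omega
    rw [← Category.assoc, TensCx.ι_proj_self, Category.id_comp, Category.comp_id]
  · have hz : IsZero (L.X p ⊗ K.X q) :=
      Functor.map_isZero (tensorRight (K.X q)) (hL p hp)
    exact hz.eq_of_src _ _

end OneSummand

variable {R R' : Type u} [CommRing R] [CommRing R'] (φ : R →+* R')

/-- `res 𝟙`, the `R'`-unit complex as a complex of `R`-modules. -/
noncomputable abbrev resUnit : DRing.Cx R := (resCx φ).obj (𝟙_ (DRing.Cx R'))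

/-- `σ_X : res 𝟙 ⊗ X ⟶ res (ext X)`. -/
noncomputable def sigma (X : DRing.Cx R) :
    resUnit φ ⊗ X ⟶ (resCx φ).obj ((extCx φ).obj X) :=
  (resUnit φ ◁ (unitCx φ).app X) ≫ resTenCx φ (𝟙_ (DRing.Cx R')) ((extCx φ).obj X) ≫
    (resCx φ).map (λ_ ((extCx φ).obj X)).hom

lemma uMap_eq (E : DRing.Cx R) (q : E ⟶ resUnit φ) (X : DRing.Cx R) :
    uMap φ E q X = (q ▷ X) ≫ sigma φ X := by
  dsimp only [uMap, uSharp, sigma]
  rw [adjunct_comp_right, adjunct_theta', Functor.map_comp]
  dsimp only [cMap]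
  have h1 := resTenCx_naturality φ (qSharp φ E q) (𝟙 ((extCx φ).obj X))
  rw [MonoidalCategory.tensorHom_id, CategoryTheory.Functor.map_id] at h1
  have h2 : (unitCx φ).app E ≫ (resCx φ).map (qSharp φ E q) = q := by
    have := adjunct_adjunctInv (mAdj φ) q
    dsimp only [adjunct] at this
    rw [← Groth.Agent.Lib.Helper26.DTenSplit.unitCx_app_eq] at this
    exact this
  simp only [Category.assoc]
  rw [← reassoc_of% h1, MonoidalCategory.tensorHom_comp_tensorHom_assoc, h2]
  erw [Category.comp_id]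
  rw [MonoidalCategory.tensorHom_def_assoc]

/-- The module-level map `res 𝟙 ⊗ M ⟶ res (ext M)`, `a ⊗ x ↦ a • (1 ⊗ x)`. -/
noncomputable def nu (M : ModuleCat.{u} R) :
    (ModuleCat.restrictScalars.{u} φ).obj (𝟙_ (ModuleCat.{u} R')) ⊗ M ⟶
      (ModuleCat.restrictScalars.{u} φ).obj ((ModuleCat.extendScalars.{u, u, u} φ).obj M) :=
  ((ModuleCat.restrictScalars.{u} φ).obj (𝟙_ (ModuleCat.{u} R')) ◁ (mAdj φ).unit.app M) ≫
    resTen₀app φ (𝟙_ (ModuleCat.{u} R')) ((ModuleCat.extendScalars.{u, u, u} φ).obj M) ≫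
    (ModuleCat.restrictScalars.{u} φ).map (λ_ ((ModuleCat.extendScalars.{u, u, u} φ).obj M)).hom

lemma nu_apply (M : ModuleCat.{u} R)
    (z : ↑((ModuleCat.restrictScalars.{u} φ).obj (𝟙_ (ModuleCat.{u} R')) ⊗ M)) :
    (nu φ M).hom z = (show ↑((ModuleCat.restrictScalars.{u} φ).obj
      ((ModuleCat.extendScalars.{u, u, u} φ).obj M)) from z) := by
  refine TensorProduct.induction_on (R := R)
    (M := ↑((ModuleCat.restrictScalars.{u} φ).obj (𝟙_ (ModuleCat.{u} R')))) (N := ↑M) z ?_ ?_ ?_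
  · exact map_zero _
  · intro a x
    change (show R' from a) •
      ((1 : R') ⊗ₜ[R,φ] x : (ModuleCat.extendScalars.{u, u, u} φ).obj M) = _
    rw [ModuleCat.ExtendScalars.smul_tmul, mul_one]
  · intro z z' hz hz'
    rw [map_add, hz, hz']

instance isIso_nu (M : ModuleCat.{u} R) : IsIso (nu φ M) := by
  rw [ConcreteCategory.isIso_iff_bijective]
  constructor
  · intro z z' h
    have h1 := nu_apply φ M z
    have h2 := nu_apply φ M z'
    exact h1.symm.trans (Eq.trans h h2)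
  · intro w
    exact ⟨(show ↑((ModuleCat.restrictScalars.{u} φ).obj (𝟙_ (ModuleCat.{u} R')) ⊗ M) from w),
      nu_apply φ M _⟩

/-- `σ` on the summand `(0, n)`. -/
lemma ι_sigma (X : DRing.Cx R) (n : ℤ) :
    TensCx.ι (resUnit φ) X 0 n n (zero_add n) ≫ (sigma φ X).f n =
      ((ModuleCat.restrictScalars.{u} φ).map (TensCx.unitIso (R := R')).hom ▷ X.X n) ≫
        nu φ (X.X n) := by
  have h1 : TensCx.ι (resUnit φ) X 0 n n (zero_add n) ≫
      (resUnit φ ◁ (unitCx φ).app X).f n =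
      ((resUnit φ).X 0 ◁ ((unitCx φ).app X).f n) ≫
        TensCx.ι (resUnit φ) ((resCx φ).obj ((extCx φ).obj X)) 0 n n (zero_add n) :=
    TensCx.isDiag_whiskerLeft (resUnit φ) ((unitCx φ).app X) n 0 n (zero_add n)
  have h2 := ι_resTenCx φ (𝟙_ (DRing.Cx R')) ((extCx φ).obj X) 0 n n (zero_add n)
  have h3 := TensCx.ι_leftUnitor_hom_f ((extCx φ).obj X) n
  have h4 := resTen₀app_naturality φ (TensCx.unitIso (R := R')).hom
    (𝟙 ((ModuleCat.extendScalars.{u, u, u} φ).obj (X.X n)))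
  rw [CategoryTheory.Functor.map_id, MonoidalCategory.tensorHom_id,
    MonoidalCategory.tensorHom_id] at h4
  have e0 : ((resCx φ).map (λ_ ((extCx φ).obj X)).hom).f n =
      (ModuleCat.restrictScalars.{u} φ).map ((λ_ ((extCx φ).obj X)).hom.f n) := rfl
  dsimp only [sigma]
  rw [HomologicalComplex.comp_f, HomologicalComplex.comp_f, reassoc_of% h1, reassoc_of% h2, e0,
    ← Functor.map_comp, h3, Functor.map_comp]
  change ((ModuleCat.restrictScalars.{u} φ).obj ((𝟙_ (DRing.Cx R')).X 0) ◁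
      (mAdj φ).unit.app (X.X n)) ≫
    resTen₀app φ ((𝟙_ (DRing.Cx R')).X 0) ((ModuleCat.extendScalars.{u, u, u} φ).obj (X.X n)) ≫
    (resM φ).map ((TensCx.unitIso (R := R')).hom ▷
      (ModuleCat.extendScalars.{u, u, u} φ).obj (X.X n)) ≫
    (resM φ).map (λ_ ((ModuleCat.extendScalars.{u, u, u} φ).obj (X.X n))).hom = _
  rw [← reassoc_of% h4]
  dsimp only [nu]
  rw [← MonoidalCategory.whisker_exchange_assoc]
  rfl

lemma isZero_resUnit_X (p : ℤ) (hp : p ≠ 0) : IsZero ((resUnit φ).X p) :=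
  Functor.map_isZero (ModuleCat.restrictScalars.{u} φ) (TensCx.isZero_unit_X (R := R') p hp)

/-- `σ_X` is an isomorphism. -/
instance isIso_sigma (X : DRing.Cx R) : IsIso (sigma φ X) := by
  have : ∀ n, IsIso ((sigma φ X).f n) := fun n => by
    haveI := isIso_ι_of_isZero (resUnit φ) X 0 n n (zero_add n) (isZero_resUnit_X φ)
    have h := ι_sigma φ X n
    have e : (sigma φ X).f n = inv (TensCx.ι (resUnit φ) X 0 n n (zero_add n)) ≫
        ((ModuleCat.restrictScalars.{u} φ).map (TensCx.unitIso (R := R')).hom ▷ X.X n) ≫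
          nu φ (X.X n) := by
      rw [← h, IsIso.inv_hom_id_assoc]
    rw [e]
    infer_instance
  exact HomologicalComplex.Hom.isIso_of_components _

end Groth.Agent.Lib.Helper90.DTen.BC
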