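import Groth.Prelude.Def_DTen5
import Groth.Agent.Lib.Helper26.AdjKProj
import Groth.Agent.Lib.Helper26.DTenSplit
import Groth.Agent.Lib.Helper28.TensCx

/-!
# Termwise extension of scalars is strong monoidal on complexes (helper90)

For `φ : R →+* R'` and complexes `X`, `Y` of `R`-modules, the map
`θ : ext (X ⊗ Y) ⟶ ext X ⊗ ext Y`, adjunct of `(unit ⊗ unit) ≫ resTenCx`, is an isomorphism.
-/

set_option autoImplicit false
set_option backward.isDefEq.respectTransparency false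
universe u
open CategoryTheory CategoryTheory.Limits MonoidalCategory
attribute [local instance] HasDerivedCategory.standard

namespace Groth.Agent.Lib.Helper90.DTen.BC

open _root_.DTen Groth.Agent.Lib.Helper28 Groth.Agent.Lib.Helper26.AdjKProj

variable {R R' : Type u} [CommRing R] [CommRing R'] (φ : R →+* R')

/-- the module-level adjunction -/
noncomputable abbrev mAdj : ModuleCat.extendScalars.{u, u, u} φ ⊣ ModuleCat.restrictScalars.{u} φ :=
  ModuleCat.extendRestrictScalarsAdj.{u, u, u} φ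

/-- The module-level strong monoidal comparison `ext (M ⊗ N) ⟶ ext M ⊗ ext N`. -/
noncomputable abbrev dlt (M N : ModuleCat.{u} R) :
    (ModuleCat.extendScalars.{u, u, u} φ).obj (M ⊗ N) ⟶
      (ModuleCat.extendScalars.{u, u, u} φ).obj M ⊗ (ModuleCat.extendScalars.{u, u, u} φ).obj N :=
  Functor.OplaxMonoidal.δ (ModuleCat.extendScalars.{u, u, u} φ) M N

instance (M N : ModuleCat.{u} R) : IsIso (dlt φ M N) := by
  dsimp only [dlt]
  infer_instance

/-- Module-level compatibility: `unit ≫ res δ = (unit ⊗ unit) ≫ resTen₀app`. -/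
lemma unit_dlt (M N : ModuleCat.{u} R) :
    (mAdj φ).unit.app (M ⊗ N) ≫ (ModuleCat.restrictScalars.{u} φ).map (dlt φ M N) =
      ((mAdj φ).unit.app M ⊗ₘ (mAdj φ).unit.app N) ≫ resTen₀app φ _ _ := by
  rw [resTen₀app_eq_μ]
  exact Adjunction.unit_app_tensor_comp_map_δ (mAdj φ) M N

/-- The complex-level lax comparison `X ⊗ Y ⟶ res (ext X ⊗ ext Y)`. -/
noncomputable def cMap (X Y : DRing.Cx R) :
    X ⊗ Y ⟶ (resCx φ).obj ((extCx φ).obj X ⊗ (extCx φ).obj Y) :=
  ((unitCx φ).app X ⊗ₘ (unitCx φ).app Y) ≫ resTenCx φ ((extCx φ).obj X) ((extCx φ).obj Y)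

lemma ι_tensorHom_f {X X' Y Y' : DRing.Cx R} (f : X ⟶ X') (g : Y ⟶ Y') (p q n : ℤ) (h : p + q = n) :
    TensCx.ι X Y p q n h ≫ (f ⊗ₘ g).f n = (f.f p ⊗ₘ g.f q) ≫ TensCx.ι X' Y' p q n h := by
  dsimp only [TensCx.ι]
  erw [HomologicalComplex.ι_mapBifunctorMap]
  rw [← Category.assoc]
  congr 1
  exact (MonoidalCategory.tensorHom_def (f.f p) (g.f q)).symm

lemma ι_cMap (X Y : DRing.Cx R) (p q n : ℤ) (h : p + q = n) :
    TensCx.ι X Y p q n h ≫ (cMap φ X Y).f n =
      ((mAdj φ).unit.app (X.X p) ⊗ₘ (mAdj φ).unit.app (Y.X q)) ≫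
        resTen₀app φ _ _ ≫ (ModuleCat.restrictScalars.{u} φ).map
          (TensCx.ι ((extCx φ).obj X) ((extCx φ).obj Y) p q n h) := by
  have h1 := ι_tensorHom_f ((unitCx φ).app X) ((unitCx φ).app Y) p q n h
  have h2 := ι_resTenCx φ ((extCx φ).obj X) ((extCx φ).obj Y) p q n h
  dsimp only [cMap]
  rw [HomologicalComplex.comp_f]
  rw [← Category.assoc]
  refine (congrArg (fun t => t ≫ _) h1).trans ?_
  rw [Category.assoc]
  exact congrArg (fun t => _ ≫ t) h2

lemma ι_cMap' (X Y : DRing.Cx R) (p q n : ℤ) (h : p + q = n) :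
    TensCx.ι X Y p q n h ≫ (cMap φ X Y).f n =
      (mAdj φ).unit.app (X.X p ⊗ Y.X q) ≫ (ModuleCat.restrictScalars.{u} φ).map
        (dlt φ (X.X p) (Y.X q) ≫ TensCx.ι ((extCx φ).obj X) ((extCx φ).obj Y) p q n h) := by
  rw [ι_cMap, Functor.map_comp]
  have h1 := unit_dlt φ (X.X p) (Y.X q)
  exact ((Category.assoc _ _ _).symm.trans (congrArg (fun t => t ≫ _) h1.symm)).trans
    (Category.assoc _ _ _)

/-- The strong monoidal comparison on complexes. -/
noncomputable def theta (X Y : DRing.Cx R) :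
    (extCx φ).obj (X ⊗ Y) ⟶ (extCx φ).obj X ⊗ (extCx φ).obj Y :=
  adjunctInv (mAdj φ) (cMap φ X Y)

lemma adjunct_theta (X Y : DRing.Cx R) :
    (unitCx φ).app (X ⊗ Y) ≫ (resCx φ).map (theta φ X Y) = cMap φ X Y := by
  have h := adjunct_adjunctInv (mAdj φ) (cMap φ X Y)
  dsimp only [adjunct] at h
  rw [← Groth.Agent.Lib.Helper26.DTenSplit.unitCx_app_eq] at h
  exact h

lemma unit_comp_theta_f (X Y : DRing.Cx R) (n : ℤ) :
    (mAdj φ).unit.app ((X ⊗ Y).X n) ≫ (ModuleCat.restrictScalars.{u} φ).map ((theta φ X Y).f n) =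
      (cMap φ X Y).f n := by
  have h := congrArg (fun t => t.f n) (adjunct_theta φ X Y)
  exact h

lemma hom_ext_ext {M : ModuleCat.{u} R} {Z : ModuleCat.{u} R'}
    {f g : (ModuleCat.extendScalars.{u, u, u} φ).obj M ⟶ Z}
    (h : (mAdj φ).unit.app M ≫ (ModuleCat.restrictScalars.{u} φ).map f =
      (mAdj φ).unit.app M ≫ (ModuleCat.restrictScalars.{u} φ).map g) : f = g := by
  apply ((mAdj φ).homEquiv _ _).injective
  rw [Adjunction.homEquiv_unit, Adjunction.homEquiv_unit]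
  exact h

lemma ext_ι_theta (X Y : DRing.Cx R) (p q n : ℤ) (h : p + q = n) :
    (ModuleCat.extendScalars.{u, u, u} φ).map (TensCx.ι X Y p q n h) ≫ (theta φ X Y).f n =
      dlt φ (X.X p) (Y.X q) ≫ TensCx.ι ((extCx φ).obj X) ((extCx φ).obj Y) p q n h := by
  apply hom_ext_ext
  rw [Functor.map_comp, Functor.map_comp, ← Category.assoc, ← Category.assoc]
  have h1 := (mAdj φ).unit.naturality (TensCx.ι X Y p q n h)
  dsimp only [Functor.id_obj, Functor.id_map, Functor.comp_obj, Functor.comp_map] at h1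
  rw [← h1, Category.assoc, unit_comp_theta_f, ι_cMap, unit_dlt, Category.assoc]

/-- The candidate inverse of `θ` in degree `n`. -/
noncomputable def psi (X Y : DRing.Cx R) (n : ℤ) :
    ((extCx φ).obj X ⊗ (extCx φ).obj Y).X n ⟶ ((extCx φ).obj (X ⊗ Y)).X n :=
  HomologicalComplex.mapBifunctorDesc (fun p q h =>
    inv (dlt φ (X.X p) (Y.X q)) ≫ (ModuleCat.extendScalars.{u, u, u} φ).map (TensCx.ι X Y p q n h))

lemma ι_psi (X Y : DRing.Cx R) (p q n : ℤ) (h : p + q = n) :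
    TensCx.ι ((extCx φ).obj X) ((extCx φ).obj Y) p q n h ≫ psi φ X Y n =
      inv (dlt φ (X.X p) (Y.X q)) ≫
        (ModuleCat.extendScalars.{u, u, u} φ).map (TensCx.ι X Y p q n h) := by
  dsimp only [psi, TensCx.ι]
  erw [HomologicalComplex.ι_mapBifunctorDesc]

lemma psi_theta (X Y : DRing.Cx R) (n : ℤ) : psi φ X Y n ≫ (theta φ X Y).f n = 𝟙 _ := by
  apply TensCx.hom_ext
  intro p q h
  rw [← Category.assoc, ι_psi, Category.assoc, ext_ι_theta, IsIso.inv_hom_id_assoc, Category.comp_id]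

lemma theta_psi (X Y : DRing.Cx R) (n : ℤ) : (theta φ X Y).f n ≫ psi φ X Y n = 𝟙 _ := by
  apply hom_ext_ext
  have e1 : (mAdj φ).unit.app ((X ⊗ Y).X n) ≫
      (ModuleCat.restrictScalars.{u} φ).map ((theta φ X Y).f n ≫ psi φ X Y n) =
      (cMap φ X Y).f n ≫ (ModuleCat.restrictScalars.{u} φ).map (psi φ X Y n) := by
    rw [Functor.map_comp, ← Category.assoc, unit_comp_theta_f]
  have e2 : (mAdj φ).unit.app ((X ⊗ Y).X n) ≫
      (ModuleCat.restrictScalars.{u} φ).map (𝟙 ((ModuleCat.extendScalars.{u, u, u} φ).obj ((X ⊗ Y).X n))) =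
      (mAdj φ).unit.app ((X ⊗ Y).X n) := by
    rw [CategoryTheory.Functor.map_id]
    exact Category.comp_id _
  refine e1.trans (Eq.trans ?_ e2.symm)
  apply TensCx.hom_ext
  intro p q h
  rw [← Category.assoc, ι_cMap', Category.assoc, ← Functor.map_comp, Category.assoc, ι_psi,
    IsIso.hom_inv_id_assoc]
  exact ((mAdj φ).unit.naturality (TensCx.ι X Y p q n h)).symm

instance isIso_theta (X Y : DRing.Cx R) : IsIso (theta φ X Y) := by
  have : ∀ n, IsIso ((theta φ X Y).f n) := fun n =>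
    ⟨psi φ X Y n, theta_psi φ X Y n, psi_theta φ X Y n⟩
  exact HomologicalComplex.Hom.isIso_of_components _

end Groth.Agent.Lib.Helper90.DTen.BC
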