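import Groth.Agent.Lib.Helper90.DTen.BC.Theta
import Groth.Agent.Lib.Helper28.ExactPairingCx

/-!
# Naturality and associativity of the strong monoidal comparison `θ` on complexes (helper90)
-/

set_option autoImplicit false
set_option backward.isDefEq.respectTransparency false
universe u
open CategoryTheory CategoryTheory.Limits MonoidalCategory
attribute [local instance] HasDerivedCategory.standard

namespace Groth.Agent.Lib.Helper90.DTen.BC

open _root_.DTen Groth.Agent.Lib.Helper28 Groth.Agent.Lib.Helper26.AdjKProj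

variable {R R' : Type u} [CommRing R] [CommRing R'] (φ : R →+* R')

section Adjunct

variable {K K' : DRing.Cx R} {Z Z' : DRing.Cx R'}

lemma adjunct_injective {f g : (extCx φ).obj K ⟶ Z}
    (h : adjunct (mAdj φ) f = adjunct (mAdj φ) g) : f = g := by
  rw [← adjunctInv_adjunct (mAdj φ) f, h, adjunctInv_adjunct]

lemma adjunctInv_injective {f g : K ⟶ (resCx φ).obj Z}
    (h : adjunctInv (mAdj φ) f = adjunctInv (mAdj φ) g) : f = g := by
  rw [← adjunct_adjunctInv (mAdj φ) f, h, adjunct_adjunctInv]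

lemma adjunct_comp_right (f : (extCx φ).obj K ⟶ Z) (h : Z ⟶ Z') :
    adjunct (mAdj φ) (f ≫ h) = adjunct (mAdj φ) f ≫ (resCx φ).map h := by
  dsimp only [adjunct]
  rw [Functor.map_comp, Category.assoc]

lemma adjunct_comp_left (k : K' ⟶ K) (f : (extCx φ).obj K ⟶ Z) :
    adjunct (mAdj φ) ((extCx φ).map k ≫ f) = k ≫ adjunct (mAdj φ) f := by
  dsimp only [adjunct]
  rw [Functor.map_comp, ← Category.assoc, ← Category.assoc]
  congr 1

lemma adjunctInv_comp_right (k : K ⟶ (resCx φ).obj Z) (h : Z ⟶ Z') :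
    adjunctInv (mAdj φ) (k ≫ (resCx φ).map h) = adjunctInv (mAdj φ) k ≫ h := by
  apply adjunct_injective
  rw [adjunct_adjunctInv, adjunct_comp_right, adjunct_adjunctInv]

lemma adjunctInv_comp_left (k' : K' ⟶ K) (k : K ⟶ (resCx φ).obj Z) :
    adjunctInv (mAdj φ) (k' ≫ k) = (extCx φ).map k' ≫ adjunctInv (mAdj φ) k := by
  apply adjunct_injective
  rw [adjunct_adjunctInv, adjunct_comp_left, adjunct_adjunctInv]

lemma adjunct_theta' (X Y : DRing.Cx R) : adjunct (mAdj φ) (theta φ X Y) = cMap φ X Y :=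
  adjunct_adjunctInv (mAdj φ) (cMap φ X Y)

end Adjunct

lemma cMap_naturality {X X' Y Y' : DRing.Cx R} (f : X ⟶ X') (g : Y ⟶ Y') :
    (f ⊗ₘ g) ≫ cMap φ X' Y' =
      cMap φ X Y ≫ (resCx φ).map ((extCx φ).map f ⊗ₘ (extCx φ).map g) := by
  dsimp only [cMap]
  have h1 := (unitCx φ).naturality f
  have h2 := (unitCx φ).naturality g
  dsimp only [Functor.id_obj, Functor.id_map, Functor.comp_obj, Functor.comp_map] at h1 h2
  have h3 := resTenCx_naturality φ ((extCx φ).map f) ((extCx φ).map g)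
  rw [Category.assoc, ← h3, ← Category.assoc, ← Category.assoc]
  congr 1
  rw [MonoidalCategory.tensorHom_comp_tensorHom, MonoidalCategory.tensorHom_comp_tensorHom, h1, h2]

lemma theta_naturality {X X' Y Y' : DRing.Cx R} (f : X ⟶ X') (g : Y ⟶ Y') :
    (extCx φ).map (f ⊗ₘ g) ≫ theta φ X' Y' =
      theta φ X Y ≫ ((extCx φ).map f ⊗ₘ (extCx φ).map g) := by
  apply adjunct_injective
  rw [adjunct_comp_left, adjunct_comp_right, adjunct_theta', adjunct_theta', cMap_naturality]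

lemma triple_hom_ext (X Y Z : DRing.Cx R) {n : ℤ} {W : ModuleCat.{u} R}
    {f g : ((X ⊗ Y) ⊗ Z).X n ⟶ W}
    (h : ∀ (a b c ab : ℤ) (hab : a + b = ab) (hn : ab + c = n),
      (TensCx.ι X Y a b ab hab ▷ Z.X c) ≫ TensCx.ι (X ⊗ Y) Z ab c n hn ≫ f =
      (TensCx.ι X Y a b ab hab ▷ Z.X c) ≫ TensCx.ι (X ⊗ Y) Z ab c n hn ≫ g) : f = g := by
  apply HomologicalComplex.mapBifunctor₁₂.hom_ext (F₁₂ := curriedTensor (ModuleCat.{u} R))
    (G := curriedTensor (ModuleCat.{u} R)) (c₁₂ := ComplexShape.up ℤ) (c₄ := ComplexShape.up ℤ)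
  intro a b c hr
  have hn : (a + b) + c = n := hr
  have h1 := h a b c (a + b) rfl hn
  rw [HomologicalComplex.mapBifunctor₁₂.ι_eq _ _ X Y Z _ _ a b c (a + b) n rfl hn]
  simp only [curriedTensor_obj_obj, curriedTensor_map_app, Category.assoc]
  exact h1

lemma ext_triple_hom_ext (X Y Z : DRing.Cx R) {n : ℤ} {W : ModuleCat.{u} R'}
    {f g : (ModuleCat.extendScalars.{u, u, u} φ).obj (((X ⊗ Y) ⊗ Z).X n) ⟶ W}
    (h : ∀ (a b c ab : ℤ) (hab : a + b = ab) (hn : ab + c = n),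
      (ModuleCat.extendScalars.{u, u, u} φ).map
          ((TensCx.ι X Y a b ab hab ▷ Z.X c) ≫ TensCx.ι (X ⊗ Y) Z ab c n hn) ≫ f =
        (ModuleCat.extendScalars.{u, u, u} φ).map
          ((TensCx.ι X Y a b ab hab ▷ Z.X c) ≫ TensCx.ι (X ⊗ Y) Z ab c n hn) ≫ g) : f = g := by
  apply hom_ext_ext
  apply triple_hom_ext
  intro a b c ab hab hn
  have hnat := (mAdj φ).unit.naturality
    ((TensCx.ι X Y a b ab hab ▷ Z.X c) ≫ TensCx.ι (X ⊗ Y) Z ab c n hn)
  dsimp only [Functor.id_obj, Functor.id_map, Functor.comp_obj, Functor.comp_map] at hnat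
  have key : ∀ t : (ModuleCat.extendScalars.{u, u, u} φ).obj (((X ⊗ Y) ⊗ Z).X n) ⟶ W,
      (TensCx.ι X Y a b ab hab ▷ Z.X c) ≫ TensCx.ι (X ⊗ Y) Z ab c n hn ≫
        (mAdj φ).unit.app (((X ⊗ Y) ⊗ Z).X n) ≫ (ModuleCat.restrictScalars.{u} φ).map t =
      (mAdj φ).unit.app _ ≫ (ModuleCat.restrictScalars.{u} φ).map
        ((ModuleCat.extendScalars.{u, u, u} φ).map
          ((TensCx.ι X Y a b ab hab ▷ Z.X c) ≫ TensCx.ι (X ⊗ Y) Z ab c n hn) ≫ t) := by
    intro t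
    rw [Functor.map_comp, ← Category.assoc ((mAdj φ).unit.app _), ← hnat]
    simp only [Category.assoc]
  rw [key f, key g, h a b c ab hab hn]

/-- left-hand side on a summand -/
lemma theta_assoc_lhs (X Y Z : DRing.Cx R) (a b c ab bc n : ℤ) (hab : a + b = ab)
    (hbc : b + c = bc) (hn : ab + c = n) (hn' : a + bc = n) :
    (ModuleCat.extendScalars.{u, u, u} φ).map
        ((TensCx.ι X Y a b ab hab ▷ Z.X c) ≫ TensCx.ι (X ⊗ Y) Z ab c n hn) ≫
      (theta φ (X ⊗ Y) Z ≫ (theta φ X Y ▷ (extCx φ).obj Z) ≫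
        (α_ ((extCx φ).obj X) ((extCx φ).obj Y) ((extCx φ).obj Z)).hom).f n =
    dlt φ (X.X a ⊗ Y.X b) (Z.X c) ≫ (dlt φ (X.X a) (Y.X b) ▷ _) ≫
      (α_ _ _ _).hom ≫
      (((extCx φ).obj X).X a ◁ TensCx.ι ((extCx φ).obj Y) ((extCx φ).obj Z) b c bc hbc) ≫
      TensCx.ι ((extCx φ).obj X) ((extCx φ).obj Y ⊗ (extCx φ).obj Z) a bc n hn' := by
  have h1 := ext_ι_theta φ (X ⊗ Y) Z ab c n hn
  have h2 := Functor.OplaxMonoidal.δ_natural_left (ModuleCat.extendScalars.{u, u, u} φ)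
    (TensCx.ι X Y a b ab hab) (Z.X c)
  have h3 : TensCx.ι ((extCx φ).obj (X ⊗ Y)) ((extCx φ).obj Z) ab c n hn ≫
      (theta φ X Y ▷ (extCx φ).obj Z).f n =
      ((theta φ X Y).f ab ▷ (ModuleCat.extendScalars.{u, u, u} φ).obj (Z.X c)) ≫
      TensCx.ι ((extCx φ).obj X ⊗ (extCx φ).obj Y) ((extCx φ).obj Z) ab c n hn :=
    TensCx.isDiag_whiskerRight (theta φ X Y) ((extCx φ).obj Z) n ab c hn
  have h4 := ext_ι_theta φ X Y a b ab hab
  have h5 : (TensCx.ι ((extCx φ).obj X) ((extCx φ).obj Y) a b ab hab ▷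
        (ModuleCat.extendScalars.{u, u, u} φ).obj (Z.X c)) ≫
      TensCx.ι ((extCx φ).obj X ⊗ (extCx φ).obj Y) ((extCx φ).obj Z) ab c n hn ≫
        (α_ ((extCx φ).obj X) ((extCx φ).obj Y) ((extCx φ).obj Z)).hom.f n =
    (α_ ((ModuleCat.extendScalars.{u, u, u} φ).obj (X.X a))
        ((ModuleCat.extendScalars.{u, u, u} φ).obj (Y.X b))
        ((ModuleCat.extendScalars.{u, u, u} φ).obj (Z.X c))).hom ≫
      (((extCx φ).obj X).X a ◁ TensCx.ι ((extCx φ).obj Y) ((extCx φ).obj Z) b c bc hbc) ≫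
        TensCx.ι ((extCx φ).obj X) ((extCx φ).obj Y ⊗ (extCx φ).obj Z) a bc n hn' :=
    TensCx.ι_ι_associator_hom ((extCx φ).obj X) ((extCx φ).obj Y) ((extCx φ).obj Z)
      a b c ab bc n hab hbc hn hn'
  rw [Functor.map_comp, HomologicalComplex.comp_f, HomologicalComplex.comp_f]
  calc _ = (ModuleCat.extendScalars.{u, u, u} φ).map (TensCx.ι X Y a b ab hab ▷ Z.X c) ≫
        ((ModuleCat.extendScalars.{u, u, u} φ).map (TensCx.ι (X ⊗ Y) Z ab c n hn) ≫
          (theta φ (X ⊗ Y) Z).f n) ≫ (theta φ X Y ▷ (extCx φ).obj Z).f n ≫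
          (α_ ((extCx φ).obj X) ((extCx φ).obj Y) ((extCx φ).obj Z)).hom.f n := by
        simp only [Category.assoc]
    _ = _ := by
        rw [h1]
        simp only [Category.assoc]
        rw [← Functor.OplaxMonoidal.δ_natural_left_assoc]
        rw [reassoc_of% h3]
        rw [← comp_whiskerRight_assoc, h4, comp_whiskerRight_assoc]
        rw [h5]

/-- right-hand side on a summand -/
lemma theta_assoc_rhs (X Y Z : DRing.Cx R) (a b c ab bc n : ℤ) (hab : a + b = ab)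
    (hbc : b + c = bc) (hn : ab + c = n) (hn' : a + bc = n) :
    (ModuleCat.extendScalars.{u, u, u} φ).map
        ((TensCx.ι X Y a b ab hab ▷ Z.X c) ≫ TensCx.ι (X ⊗ Y) Z ab c n hn) ≫
      ((extCx φ).map (α_ X Y Z).hom ≫ theta φ X (Y ⊗ Z) ≫
        ((extCx φ).obj X ◁ theta φ Y Z)).f n =
    (ModuleCat.extendScalars.{u, u, u} φ).map (α_ (X.X a) (Y.X b) (Z.X c)).hom ≫
      dlt φ (X.X a) (Y.X b ⊗ Z.X c) ≫
      ((ModuleCat.extendScalars.{u, u, u} φ).obj (X.X a) ◁ dlt φ (Y.X b) (Z.X c)) ≫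
      (((extCx φ).obj X).X a ◁ TensCx.ι ((extCx φ).obj Y) ((extCx φ).obj Z) b c bc hbc) ≫
      TensCx.ι ((extCx φ).obj X) ((extCx φ).obj Y ⊗ (extCx φ).obj Z) a bc n hn' := by
  have k1 := TensCx.ι_ι_associator_hom X Y Z a b c ab bc n hab hbc hn hn'
  have k2 := ext_ι_theta φ X (Y ⊗ Z) a bc n hn'
  have k3 := Functor.OplaxMonoidal.δ_natural_right (ModuleCat.extendScalars.{u, u, u} φ)
    (X.X a) (TensCx.ι Y Z b c bc hbc)
  have k4 : TensCx.ι ((extCx φ).obj X) ((extCx φ).obj (Y ⊗ Z)) a bc n hn' ≫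
      ((extCx φ).obj X ◁ theta φ Y Z).f n =
      ((ModuleCat.extendScalars.{u, u, u} φ).obj (X.X a) ◁ (theta φ Y Z).f bc) ≫
      TensCx.ι ((extCx φ).obj X) ((extCx φ).obj Y ⊗ (extCx φ).obj Z) a bc n hn' :=
    TensCx.isDiag_whiskerLeft ((extCx φ).obj X) (theta φ Y Z) n a bc hn'
  have k5 := ext_ι_theta φ Y Z b c bc hbc
  have e0 : ((extCx φ).map (α_ X Y Z).hom).f n =
      (ModuleCat.extendScalars.{u, u, u} φ).map ((α_ X Y Z).hom.f n) := rfl
  rw [HomologicalComplex.comp_f, HomologicalComplex.comp_f, e0, ← Category.assoc,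
    ← Functor.map_comp, Category.assoc, k1, Functor.map_comp, Functor.map_comp]
  simp only [Category.assoc]
  rw [reassoc_of% k2, ← reassoc_of% k3, k4,
    ← MonoidalCategory.whiskerLeft_comp_assoc, k5, MonoidalCategory.whiskerLeft_comp_assoc]
  rfl

theorem theta_assoc (X Y Z : DRing.Cx R) :
    theta φ (X ⊗ Y) Z ≫ (theta φ X Y ▷ (extCx φ).obj Z) ≫
        (α_ ((extCx φ).obj X) ((extCx φ).obj Y) ((extCx φ).obj Z)).hom =
      (extCx φ).map (α_ X Y Z).hom ≫ theta φ X (Y ⊗ Z) ≫ ((extCx φ).obj X ◁ theta φ Y Z) := by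
  ext n : 1
  apply ext_triple_hom_ext
  intro a b c ab hab hn
  rw [theta_assoc_lhs φ X Y Z a b c ab (b + c) n hab rfl hn (by omega),
    theta_assoc_rhs φ X Y Z a b c ab (b + c) n hab rfl hn (by omega)]
  have h := Functor.OplaxMonoidal.associativity (ModuleCat.extendScalars.{u, u, u} φ)
    (X.X a) (Y.X b) (Z.X c)
  rw [reassoc_of% h]

end Groth.Agent.Lib.Helper90.DTen.BC
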