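import Groth.Agent.Lib.Helper90.DTen.BC.Lam
import Groth.Agent.Lib.Helper90.DTen.EvalTenCx

/-!
# The comparison `E ⊗ X ⟶ res (ext X)` attached to `q : E ⟶ res 𝟙` (helper90)

For `q : E ⟶ res 𝟙` (a complex `E` of `R`-modules over the `R'`-unit complex), the natural map
`u_X : E ⊗ X ⟶ res (ext X)`, its compatibility with the strong monoidal structure `θ`, and the
resulting compatibility of `canon`, `beta` and `lam`.
-/

set_option autoImplicit false
set_option backward.isDefEq.respectTransparency false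
universe u
open CategoryTheory CategoryTheory.Limits MonoidalCategory
attribute [local instance] HasDerivedCategory.standard

namespace Groth.Agent.Lib.Helper90.DTen.BC

open _root_.DTen Groth.Agent.Lib.Helper28 Groth.Agent.Lib.Helper26.AdjKProj
  Groth.Agent.Lib.Helper90.DTen Groth.Agent.Lib.Helper26.TensorHomCx

variable {R R' : Type u} [CommRing R] [CommRing R'] (φ : R →+* R')
  (E : DRing.Cx R) (q : E ⟶ (resCx φ).obj (𝟙_ (DRing.Cx R')))

/-- The adjunct `ext E ⟶ 𝟙` of `q`. -/
noncomputable def qSharp : (extCx φ).obj E ⟶ 𝟙_ (DRing.Cx R') := adjunctInv (mAdj φ) q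

/-- `u♯_X : ext (E ⊗ X) ⟶ ext X`. -/
noncomputable def uSharp (X : DRing.Cx R) : (extCx φ).obj (E ⊗ X) ⟶ (extCx φ).obj X :=
  theta φ E X ≫ (qSharp φ E q ▷ (extCx φ).obj X) ≫ (λ_ ((extCx φ).obj X)).hom

/-- `u_X : E ⊗ X ⟶ res (ext X)`. -/
noncomputable def uMap (X : DRing.Cx R) : E ⊗ X ⟶ (resCx φ).obj ((extCx φ).obj X) :=
  adjunct (mAdj φ) (uSharp φ E q X)

lemma adjunctInv_uMap (X : DRing.Cx R) : adjunctInv (mAdj φ) (uMap φ E q X) = uSharp φ E q X :=
  adjunctInv_adjunct _ _

lemma uSharp_naturality {X Y : DRing.Cx R} (f : X ⟶ Y) :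
    (extCx φ).map (E ◁ f) ≫ uSharp φ E q Y = uSharp φ E q X ≫ (extCx φ).map f := by
  have h1 := theta_naturality φ (𝟙 E) f
  rw [MonoidalCategory.id_tensorHom, CategoryTheory.Functor.map_id,
    MonoidalCategory.id_tensorHom] at h1
  dsimp only [uSharp]
  rw [← Category.assoc, h1]
  simp only [Category.assoc]
  rw [MonoidalCategory.whisker_exchange_assoc, MonoidalCategory.leftUnitor_naturality]

lemma uMap_naturality {X Y : DRing.Cx R} (f : X ⟶ Y) :
    (E ◁ f) ≫ uMap φ E q Y = uMap φ E q X ≫ (resCx φ).map ((extCx φ).map f) := by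
  dsimp only [uMap]
  rw [← adjunct_comp_left, ← adjunct_comp_right, uSharp_naturality]

/-- A coherence identity in a monoidal category. -/
lemma monoidal_aux {C : Type*} [Category C] [MonoidalCategory C] {A W B D : C}
    (f : A ⟶ 𝟙_ C) (g : W ⟶ B ⊗ D) :
    (A ◁ g) ≫ (α_ A B D).inv ≫ ((f ▷ B) ▷ D) ≫ ((λ_ B).hom ▷ D) =
      (f ▷ W) ≫ (λ_ W).hom ≫ g := by
  rw [← MonoidalCategory.associator_inv_naturality_left_assoc,
    ← MonoidalCategory.leftUnitor_tensor_hom, MonoidalCategory.whisker_exchange_assoc,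
    MonoidalCategory.leftUnitor_naturality]

/-- The compatibility of `u♯` with `θ`. -/
lemma theta_uSharp (X Y : DRing.Cx R) :
    theta φ (E ⊗ X) Y ≫ (uSharp φ E q X ▷ (extCx φ).obj Y) =
      (extCx φ).map (α_ E X Y).hom ≫ uSharp φ E q (X ⊗ Y) ≫ theta φ X Y := by
  have hA := theta_assoc φ E X Y
  have hA' : theta φ (E ⊗ X) Y ≫ (theta φ E X ▷ (extCx φ).obj Y) =
      (extCx φ).map (α_ E X Y).hom ≫ theta φ E (X ⊗ Y) ≫ ((extCx φ).obj E ◁ theta φ X Y) ≫
        (α_ ((extCx φ).obj E) ((extCx φ).obj X) ((extCx φ).obj Y)).inv := by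
    calc theta φ (E ⊗ X) Y ≫ (theta φ E X ▷ (extCx φ).obj Y)
        = (theta φ (E ⊗ X) Y ≫ (theta φ E X ▷ (extCx φ).obj Y) ≫
            (α_ ((extCx φ).obj E) ((extCx φ).obj X) ((extCx φ).obj Y)).hom) ≫
            (α_ ((extCx φ).obj E) ((extCx φ).obj X) ((extCx φ).obj Y)).inv := by
          simp only [Category.assoc, Iso.hom_inv_id, Category.comp_id]
      _ = _ := by
          rw [hA]
          simp only [Category.assoc]
  dsimp only [uSharp]
  rw [MonoidalCategory.comp_whiskerRight, MonoidalCategory.comp_whiskerRight,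
    ← Category.assoc, hA']
  simp only [Category.assoc]
  rw [monoidal_aux]

/-- The key square: `u`, `beta` and `lam` against `canon`. -/
theorem uMap_beta_lam (P N : DRing.Cx R) :
    uMap φ E q (DRing.homCx P N) ≫ (resCx φ).map (beta φ P N) ≫ lam φ P ((extCx φ).obj N) =
      canon E N P ≫ DRing.homCxMap P (uMap φ E q N) := by
  have hinj : ∀ {a b : E ⊗ DRing.homCx P N ⟶
      DRing.homCx P ((resCx φ).obj ((extCx φ).obj N))}, uncurryHom a = uncurryHom b → a = b := by
    intro a b h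
    rw [← curryHom_uncurryHom a, h, curryHom_uncurryHom]
  apply hinj
  rw [← Category.assoc, comp_lam]
  dsimp only [lamMap]
  rw [uncurryHom_curryHom, adjunctInv_comp_right, adjunctInv_uMap, uncurryHom_comp_left,
    uncurryHom_beta]
  rw [uncurryHom_comp_right, canon, uncurryHom_curryHom, Category.assoc, uMap_naturality]
  dsimp only [uMap]
  rw [← adjunct_comp_right, ← adjunct_comp_left]
  congr 1
  rw [← Category.assoc, theta_uSharp]
  simp only [Category.assoc, IsIso.hom_inv_id_assoc]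

end Groth.Agent.Lib.Helper90.DTen.BC
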